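import Cfsg.Agent.Lib.FischerLarge.Fi22Part.Part
import Cfsg.Agent.Lib.Fischer.Relations.TwentyFour.PairDerived

/-!
# The centraliser of a small involution is a two-fold cover of the automorphism group of Fi22
-/

set_option autoImplicit false
set_option maxRecDepth 4000

namespace Cfsg.Lib.FischerLarge

open Cfsg Cfsg.Lib.SUSixU43 Cfsg.Lib.Extra
open scoped commutatorElement

universe u

theorem center_eq_bot_of_fi22 {W : Type*} [Group W] (e : W ≃* Cfsg.Spor.Fi22) : Subgroup.center W = ⊥ := by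
  rw [← Fischer.Relations.pair_map_center e.symm, Fischer.Relations.fi22_center, Subgroup.map_bot]

theorem perfect_of_fi22 {W : Type*} [Group W] (e : W ≃* Cfsg.Spor.Fi22) : commutator W = ⊤ := by
  rw [commutator_def, ← Subgroup.map_top_of_surjective e.symm.toMonoidHom e.symm.surjective,
    ← Subgroup.map_commutator, ← commutator_def, Fischer.Relations.fi22_perfect]

variable {G : Type u} [Group G] [Finite G] {z : G} {Q : Subgroup G} (D : Coord z Q)

namespace Coord.Duo

variable {D} {t t2 : G} (h : D.Duo t t2) {X1 : Subgroup G} {o : G}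
include h

/-- An element of the centraliser acting trivially on the half modulo the involution is a power of it. -/
theorem cent_half (H : h.IsHalf X1 o) {g₀ s₀ : G} (hw : D.Wit g₀ s₀) {c : G} (hcX : Commute c t)
    (hc : ∀ x ∈ X1, c * x * c⁻¹ = x ∨ c * x * c⁻¹ = x * t) : c = 1 ∨ c = t := by
  haveI := h.half_normal H
  obtain ⟨eW⟩ := h.part_fi22 H hw
  have hzX : z ∈ X1 := H.pair_le (mem_pairCent.2 ⟨h.commTz.symm, h.comm2z.symm⟩)
  have hcz : Commute c z := by
    rcases hc z hzX with e | e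
    · exact mul_inv_eq_iff_eq_mul.1 e
    · refine absurd (isConj_iff.2 ⟨c, e⟩) (D.not_conj_A (mul_mem D.ctx.mem h.tQ) ?_)
      rw [D.cl_z_mul h.tQ]
      exact h.vA
  obtain ⟨hcQ, a, ha⟩ := h.rigid_line hw hcz hcX fun x _ hxt hx2 =>
    hc x (H.pair_le (mem_pairCent.2 ⟨hxt.symm, hx2.symm⟩))
  have hc1 : c ∈ X1 := by
    obtain ⟨f, hf, hfe⟩ := h.isQuad.cls a
    have hfX : f ∈ X1 := H.pair_le (h.four_le_pairCent hf)
    rcases (D.cl_eq f (h.isQuad.le hf) c hcQ).1 (hfe.trans ha.symm) with e | e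
    · rw [e]; exact hfX
    · rw [e]; exact mul_mem hzX hfX
  have hmem : (QuotientGroup.mk (⟨c, hc1⟩ : ↥X1) : ↥X1 ⧸ (Subgroup.zpowers t).subgroupOf X1) ∈
      Subgroup.center _ := by
    refine Subgroup.mem_center_iff.2 fun w => ?_
    obtain ⟨x, rfl⟩ := QuotientGroup.mk_surjective w
    rw [← QuotientGroup.mk_mul, ← QuotientGroup.mk_mul, h.half_mk_eq H]
    push_cast
    have hxt : Commute (x : G) t := commute_of_mem_cent (H.le x.2)
    rcases hc x x.2 with e | e
    · exact Or.inl (mul_inv_eq_iff_eq_mul.1 e)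
    · refine Or.inr ?_
      rw [mul_inv_eq_iff_eq_mul] at e
      rw [e, mul_assoc (x : G) t c, ← hcX.eq, ← mul_assoc]
  rw [center_eq_bot_of_fi22 eW, Subgroup.mem_bot, QuotientGroup.eq_one_iff, Subgroup.mem_subgroupOf] at hmem
  exact h.mem_zpowers_t.1 hmem

/-- The half is quasisimple. -/
theorem half_quasisimple (H : h.IsHalf X1 o) {g₀ s₀ : G} (hw : D.Wit g₀ s₀) : Cfsg.IsQuasisimple ↥X1 := by
  haveI := h.half_normal H
  obtain ⟨eW⟩ := h.part_fi22 H hw
  obtain ⟨q, hq⟩ : ∃ q, q = QuotientGroup.mk' ((Subgroup.zpowers t).subgroupOf X1) := ⟨_, rfl⟩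
  have hqs : Function.Surjective q := by rw [hq]; exact QuotientGroup.mk'_surjective _
  have htc : (⟨t, h.t_mem_half H⟩ : ↥X1) ∈ commutator ↥X1 := by
    obtain ⟨hqP, -, -, -⟩ := h.cover hw
    have h1 : (⟨t, h.t_mem⟩ : ↥(pairCent t t2)) ∈ commutator ↥(pairCent t t2) := by
      rw [hqP.1.commutator_eq_top]; exact Subgroup.mem_top _
    have h2 := Subgroup.mem_map_of_mem (Subgroup.inclusion H.pair_le) h1
    rw [commutator_def, Subgroup.map_commutator] at h2
    rw [commutator_def]
    exact Subgroup.commutator_mono le_top le_top h2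
  have hperf : commutator ↥X1 = ⊤ := by
    rw [eq_top_iff]
    intro x _
    have hmap : (commutator ↥X1).map q = ⊤ := by
      rw [commutator_def, Subgroup.map_commutator, Subgroup.map_top_of_surjective q hqs, ← commutator_def,
        perfect_of_fi22 eW]
    obtain ⟨k, hk, e⟩ := hmap ▸ Subgroup.mem_top (q x)
    rw [hq, QuotientGroup.mk'_apply, QuotientGroup.mk'_apply, h.half_mk_eq H] at e
    rcases e with e | e
    · rw [show x = k from Subtype.ext e]; exact hk
    · rw [show x = k * ⟨t, h.t_mem_half H⟩ from Subtype.ext e]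
      exact mul_mem hk htc
  have hcen : Subgroup.center ↥X1 = q.ker := by
    refine le_antisymm (fun x hx => ?_) fun x hx => ?_
    · rw [MonoidHom.mem_ker, ← Subgroup.mem_bot, ← center_eq_bot_of_fi22 eW]
      refine Subgroup.mem_center_iff.2 fun w => ?_
      obtain ⟨y, hy⟩ := QuotientGroup.mk_surjective w
      rw [← hy, hq, QuotientGroup.mk'_apply, ← QuotientGroup.mk_mul, ← QuotientGroup.mk_mul,
        Subgroup.mem_center_iff.1 hx y]
    · rw [hq, QuotientGroup.ker_mk', Subgroup.mem_subgroupOf, h.mem_zpowers_t] at hx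
      refine Subgroup.mem_center_iff.2 fun y => Subtype.ext ?_
      push_cast
      rcases hx with e | e <;> rw [e]
      · rw [mul_one, one_mul]
      · exact (commute_of_mem_cent (H.le y.2)).eq
  have hFi : Cfsg.IsFi22 Cfsg.Spor.Fi22 := CosetEnum.Fi22Pres.isFi22
  haveI := hFi.1
  let e2 : ↥X1 ⧸ Subgroup.center ↥X1 ≃* Cfsg.Spor.Fi22 :=
    (QuotientGroup.quotientMulEquivOfEq (by rw [hcen, hq, QuotientGroup.ker_mk'])).trans eW
  haveI : Nontrivial (↥X1 ⧸ Subgroup.center ↥X1) := e2.toEquiv.nontrivial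
  exact ⟨⟨hperf⟩, IsSimpleGroup.isSimpleGroup_of_surjective e2.symm.toMonoidHom e2.symm.surjective⟩

theorem half_index (H : h.IsHalf X1 o) : (X1.subgroupOf (Subgroup.centralizer ({t} : Set G))).index = 2 := by
  rw [Subgroup.index_eq_two_iff]
  refine ⟨⟨o, H.o_mem⟩, fun b => ?_⟩
  simp only [Subgroup.mem_subgroupOf, Subgroup.coe_mul]
  by_cases hb : (b : G) ∈ X1
  · exact Or.inr ⟨hb, fun e => H.o_out (by simpa using mul_mem (inv_mem hb) e)⟩
  · exact Or.inl ⟨H.index _ b.2 _ H.o_mem hb H.o_out, hb⟩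

/-- The half is the generalized Fitting subgroup. -/
theorem half_fitting (H : h.IsHalf X1 o) {g₀ s₀ : G} (hw : D.Wit g₀ s₀) :
    Cfsg.generalizedFittingSubgroup ↥(Subgroup.centralizer ({t} : Set G)) =
      X1.subgroupOf (Subgroup.centralizer ({t} : Set G)) := by
  obtain ⟨C, hC⟩ : ∃ C, C = Subgroup.centralizer ({t} : Set G) := ⟨_, rfl⟩
  rw [← hC]
  have hle : X1 ≤ C := hC ▸ H.le
  obtain ⟨K', hK'⟩ : ∃ K' : Subgroup ↥C, K' = X1.subgroupOf C := ⟨_, rfl⟩
  haveI hn : K'.Normal := ⟨fun a ha g => by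
    rw [hK', Subgroup.mem_subgroupOf] at ha ⊢
    push_cast
    exact H.conj _ (hC ▸ g.2) _ ha⟩
  have hqK : Cfsg.IsQuasisimple ↥K' := Lib.Core.quasisimple_congr (h.half_quasisimple H hw)
    ((MulEquiv.subgroupCongr hK').trans (Subgroup.subgroupOfEquivOfLe hle)).symm
  have hcomp : Cfsg.IsComponent K' := ⟨Subgroup.Normal.isSubnormal hn, hqK⟩
  have hcentK : ∀ g : ↥C, g ∈ Subgroup.centralizer (K' : Set ↥C) → g ∈ K' := fun g hg => by
    rw [Subgroup.mem_centralizer_iff] at hg
    rcases h.cent_half H hw (commute_of_mem_cent (hC ▸ g.2 : (g : G) ∈ Subgroup.centralizer ({t} : Set G))) (fun x hx => Or.inl (by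
        have h1 := congrArg Subtype.val (hg ⟨x, hle hx⟩ (by rw [hK', SetLike.mem_coe, Subgroup.mem_subgroupOf]; exact hx))
        push_cast at h1
        rw [← h1, mul_inv_cancel_right])) with e | e <;>
      rw [hK', Subgroup.mem_subgroupOf, e]
    exacts [one_mem _, h.t_mem_half H]
  rw [← hK']
  have hlay : Cfsg.layer ↥C = K' := by
    refine le_antisymm (sSup_le fun M hM => ?_) (Lib.Core.le_layer hcomp)
    by_contra hne
    have h1 := Lib.Core.component_commute hM hcomp (fun e => hne e.le)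
    rw [Subgroup.commutator_eq_bot_iff_le_centralizer] at h1
    exact hne fun g hg => hcentK g (h1 hg)
  refine le_antisymm (sup_le hlay.le fun g hg => hcentK g ?_) (hlay.symm.le.trans le_sup_left)
  have h1 := Lib.Core.commutator_layer_fitting (G := ↥C)
  rw [hlay, Subgroup.commutator_comm, Subgroup.commutator_eq_bot_iff_le_centralizer] at h1
  exact h1 hg

set_option maxHeartbeats 800000 in
/-- The centraliser modulo the involution is the automorphism group. -/
theorem cent_mulAut (H : h.IsHalf X1 o) {g₀ s₀ : G} (hw : D.Wit g₀ s₀)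
    [((Subgroup.zpowers t).subgroupOf (Subgroup.centralizer ({t} : Set G))).Normal] :
    Nonempty (↥(Subgroup.centralizer ({t} : Set G)) ⧸
      (Subgroup.zpowers t).subgroupOf (Subgroup.centralizer ({t} : Set G)) ≃* MulAut Cfsg.Spor.Fi22) := by
  haveI := h.half_normal H
  obtain ⟨eW⟩ := h.part_fi22 H hw
  obtain ⟨C, hC⟩ : ∃ C, C = Subgroup.centralizer ({t} : Set G) := ⟨_, rfl⟩
  have hconj : ∀ x ∈ C, ∀ y ∈ X1, x * y * x⁻¹ ∈ X1 := hC ▸ H.conj
  let cj : ↥C → ↥X1 ≃* ↥X1 := fun x =>
    { toFun := fun y => ⟨(x : G) * y * (x : G)⁻¹, hconj _ x.2 _ y.2⟩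
      invFun := fun y => ⟨(x : G)⁻¹ * y * (x : G), by simpa using hconj _ (inv_mem x.2) _ y.2⟩
      left_inv := fun y => Subtype.ext (by
        show (x : G)⁻¹ * ((x : G) * y * (x : G)⁻¹) * (x : G) = y
        group)
      right_inv := fun y => Subtype.ext (by
        show (x : G) * ((x : G)⁻¹ * y * (x : G)) * (x : G)⁻¹ = y
        group)
      map_mul' := fun a b => Subtype.ext (by
        show (x : G) * (a * b) * (x : G)⁻¹ = (x : G) * a * (x : G)⁻¹ * ((x : G) * b * (x : G)⁻¹)
        group) }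
  have hN : ∀ x : ↥C, ((Subgroup.zpowers t).subgroupOf X1).map (cj x : ↥X1 →* ↥X1) =
      (Subgroup.zpowers t).subgroupOf X1 := fun x => by
    have hxt : (x : G) * t * (x : G)⁻¹ = t := by
      rw [(commute_of_mem_cent (hC ▸ x.2 : (x : G) ∈ Subgroup.centralizer ({t} : Set G))).eq, mul_inv_cancel_right]
    ext y
    rw [Subgroup.mem_map]
    constructor
    · rintro ⟨w, hw', rfl⟩
      rw [Subgroup.mem_subgroupOf] at hw' ⊢
      show (x : G) * w * (x : G)⁻¹ ∈ _
      rcases h.mem_zpowers_t.1 hw' with e | e <;> rw [e]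
      · exact h.mem_zpowers_t.2 (Or.inl (by group))
      · exact h.mem_zpowers_t.2 (Or.inr hxt)
    · intro hy
      refine ⟨y, hy, Subtype.ext ?_⟩
      show (x : G) * y * (x : G)⁻¹ = y
      rw [Subgroup.mem_subgroupOf] at hy
      rcases h.mem_zpowers_t.1 hy with e | e <;> rw [e]
      · group
      · exact hxt
  let ρ : ↥C →* MulAut (↥X1 ⧸ (Subgroup.zpowers t).subgroupOf X1) :=
    MonoidHom.mk' (fun x => QuotientGroup.congr _ _ (cj x) (hN x)) fun a b => MulEquiv.ext fun w => by
      obtain ⟨y, rfl⟩ := QuotientGroup.mk_surjective w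
      show (QuotientGroup.mk (cj (a * b) y) : ↥X1 ⧸ (Subgroup.zpowers t).subgroupOf X1) =
        QuotientGroup.mk (cj a (cj b y))
      refine congrArg QuotientGroup.mk (Subtype.ext ?_)
      show (a : G) * b * y * ((a : G) * b)⁻¹ = (a : G) * ((b : G) * y * (b : G)⁻¹) * (a : G)⁻¹
      group
  have hρ : ∀ (x : ↥C) (y : ↥X1), ρ x (QuotientGroup.mk y) = QuotientGroup.mk (cj x y) := fun x y => rfl
  obtain ⟨ψ, hψ⟩ : ∃ ψ : ↥C →* MulAut Cfsg.Spor.Fi22, ψ = (MulAut.congr eW).toMonoidHom.comp ρ := ⟨_, rfl⟩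
  have hker : ψ.ker = (Subgroup.zpowers t).subgroupOf C := by
    ext x
    rw [MonoidHom.mem_ker, hψ, MonoidHom.comp_apply, MulEquiv.coe_toMonoidHom, map_eq_one_iff _ (MulEquiv.injective _),
      Subgroup.mem_subgroupOf, h.mem_zpowers_t]
    have hxt : Commute (x : G) t :=
      commute_of_mem_cent (hC ▸ x.2 : (x : G) ∈ Subgroup.centralizer ({t} : Set G))
    constructor
    · intro e
      refine h.cent_half H hw hxt fun y hy => ?_
      have e1 := congrArg (fun f : MulAut _ => f (QuotientGroup.mk (⟨y, hy⟩ : ↥X1))) e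
      simp only [hρ, MulAut.one_apply] at e1
      rw [h.half_mk_eq H] at e1
      rcases e1 with e2 | e2
      · exact Or.inl e2.symm
      · refine Or.inr ?_
        have e3 : y = (x : G) * y * (x : G)⁻¹ * t := e2
        calc (x : G) * y * (x : G)⁻¹ = (x : G) * y * (x : G)⁻¹ * t * t := by rw [mul_assoc _ t t, h.sqT, mul_one]
          _ = y * t := by rw [← e3]
    · intro e
      refine MulEquiv.ext fun w => ?_
      obtain ⟨y, rfl⟩ := QuotientGroup.mk_surjective w
      rw [hρ, MulAut.one_apply]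
      refine congrArg QuotientGroup.mk (Subtype.ext ?_)
      show (x : G) * y * (x : G)⁻¹ = y
      rcases e with e | e <;> rw [e]
      · group
      · rw [← (commute_of_mem_cent (H.le y.2)).eq, mul_inv_cancel_right]
  haveI : Finite (MulAut Cfsg.Spor.Fi22) := Nat.finite_of_card_ne_zero (by
    rw [Fischer.Relations.card_mulAut_fi22,
      show Nat.card Cfsg.Spor.Fi22 = _ from (CosetEnum.Fi22Pres.isFi22 : Cfsg.IsFi22 Cfsg.Spor.Fi22).2]
    decide)
  have hrange : ψ.range = ⊤ := by
    refine Subgroup.eq_top_of_card_eq _ ?_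
    have h1 := ψ.ker.card_mul_index
    have h2 := (X1.subgroupOf C).card_mul_index
    have h3 := Subgroup.card_eq_card_quotient_mul_card_subgroup ((Subgroup.zpowers t).subgroupOf X1)
    have hle : X1 ≤ C := hC ▸ H.le
    have ht : Subgroup.zpowers t ≤ X1 := Subgroup.zpowers_le.2 (h.t_mem_half H)
    have hI : (X1.subgroupOf C).index = 2 := hC ▸ h.half_index H
    rw [Nat.card_congr eW.toEquiv, Nat.card_congr (Subgroup.subgroupOfEquivOfLe ht).toEquiv] at h3
    rw [hI, Nat.card_congr (Subgroup.subgroupOfEquivOfLe hle).toEquiv, h3] at h2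
    rw [Subgroup.index_ker, hker, Nat.card_congr (Subgroup.subgroupOfEquivOfLe (ht.trans hle)).toEquiv, ← h2] at h1
    have hpos : 0 < Nat.card ↥(Subgroup.zpowers t) := Nat.card_pos
    rw [Fischer.Relations.card_mulAut_fi22]
    refine Nat.eq_of_mul_eq_mul_left hpos (h1.trans ?_)
    ring
  subst hC
  exact ⟨(QuotientGroup.quotientMulEquivOfEq hker.symm).trans
    (QuotientGroup.quotientKerEquivOfSurjective ψ (MonoidHom.range_eq_top.1 hrange))⟩

end Coord.Duo

end Cfsg.Lib.FischerLarge
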