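import Mathlib.GroupTheory.Transfer
import Mathlib.GroupTheory.PGroup

/-!
# The transfer of a sign at an involution, by parity
-/

set_option autoImplicit false
set_option linter.style.haveILetI false

namespace Cfsg.Lib.FischerLarge

open MulAction

variable {G : Type*} [Group G] [Finite G] {H : Subgroup G}

omit [Finite G] in
theorem smul_coe_eq {g b : G} : b • (g : G ⧸ H) = g ↔ g⁻¹ * b * g ∈ H := by
  show ((b * g : G) : G ⧸ H) = _ ↔ _
  rw [eq_comm, QuotientGroup.eq, mul_assoc]

omit [Finite G] in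
theorem smul_out_eq {b : G} {x : G ⧸ H} : b • x = x ↔ x.out⁻¹ * b * x.out ∈ H := by
  rw [← smul_coe_eq, QuotientGroup.out_eq']

/-- The sign at a fixed coset. -/
noncomputable def fixSign (χ : ↥H →* ℤˣ) (s : G) (x : G ⧸ H) : ℤˣ := by
  classical
  exact if h : s • x = x then χ ⟨x.out⁻¹ * s * x.out, smul_out_eq.1 h⟩ else 1

omit [Finite G] in
theorem fixSign_smul (χ : ↥H →* ℤˣ) {s c : G} (hc : Commute c s) (x : G ⧸ H) :
    fixSign χ s (c • x) = fixSign χ s x := by
  classical
  obtain ⟨h, hh⟩ : ∃ h : ↥H, (c • x).out = c * x.out * h := by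
    refine ⟨⟨(c * x.out)⁻¹ * (c • x).out, ?_⟩, (mul_inv_cancel_left _ _).symm⟩
    rw [← QuotientGroup.eq, QuotientGroup.out_eq']
    show ((c * x.out : G) : G ⧸ H) = c • x
    conv_rhs => rw [← QuotientGroup.out_eq' x]
    rfl
  have hiff : s • c • x = c • x ↔ s • x = x := by
    rw [← mul_smul, ← hc.eq, mul_smul]
    exact smul_left_cancel_iff c
  by_cases hx : s • x = x
  · rw [fixSign, fixSign, dif_pos (hiff.2 hx), dif_pos hx]
    rw [show (⟨(c • x).out⁻¹ * s * (c • x).out, smul_out_eq.1 (hiff.2 hx)⟩ : ↥H) =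
      h⁻¹ * ⟨x.out⁻¹ * s * x.out, smul_out_eq.1 hx⟩ * h from Subtype.ext (by
        push_cast
        rw [hh]
        calc (c * x.out * (h : G))⁻¹ * s * (c * x.out * h) = (h : G)⁻¹ * (x.out⁻¹ * (c⁻¹ * (s * c)) * x.out) * h := by
              group
          _ = (h : G)⁻¹ * (x.out⁻¹ * s * x.out) * h := by rw [← hc.eq, inv_mul_cancel_left]),
      map_mul, map_mul, map_inv, mul_comm, ← mul_assoc, mul_inv_cancel, one_mul]
  · rw [fixSign, fixSign, dif_neg (fun h => hx (hiff.1 h)), dif_neg hx]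

/-- The transfer of a sign at an involution is the sign, when a two-group centralizing the involution fixes no
other coset fixed by it. -/
theorem transfer_single (χ : ↥H →* ℤˣ) {s : G} (hs2 : s * s = 1) (hsH : s ∈ H) (E : Subgroup G)
    (hEp : IsPGroup 2 ↥E) (hEs : ∀ a ∈ E, Commute a s) (hEH : E ≤ H)
    (hnone : ∀ g : G, g⁻¹ * s * g ∈ H → (∀ a ∈ E, g⁻¹ * a * g ∈ H) → g ∈ H) :
    MonoidHom.transfer χ s = χ ⟨s, hsH⟩ := by
  classical
  haveI : Fact (Nat.Prime 2) := ⟨Nat.prime_two⟩
  haveI : Fintype (G ⧸ H) := Fintype.ofFinite _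
  haveI : Fintype (Quotient (orbitRel (Subgroup.zpowers s) (G ⧸ H))) := Fintype.ofFinite _
  have hs2' : s ^ 2 = 1 := by rw [pow_two, hs2]
  -- the orbits have at most two elements
  have horb : ∀ x y : G ⧸ H, (Quotient.mk'' x : Quotient (orbitRel (Subgroup.zpowers s) (G ⧸ H))) = Quotient.mk'' y →
      x = y ∨ x = s • y := by
    intro x y h
    have h' := Quotient.exact' h
    rw [orbitRel_apply] at h'
    obtain ⟨⟨k, hk⟩, rfl⟩ := h'
    obtain ⟨n, rfl⟩ := Subgroup.mem_zpowers_iff.1 hk
    rcases Int.even_or_odd n with ⟨j, rfl⟩ | ⟨j, rfl⟩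
    · left
      show s ^ (j + j) • y = y
      rw [← two_mul, zpow_mul, zpow_two, hs2, one_zpow, one_smul]
    · right
      show s ^ (2 * j + 1) • y = s • y
      rw [zpow_add_one, zpow_mul, zpow_two, hs2, one_zpow, one_mul]
  have hterm : ∀ x : G ⧸ H, χ ⟨x.out⁻¹ * s ^ Function.minimalPeriod (s • ·) x * x.out,
      QuotientGroup.out_conj_pow_minimalPeriod_mem _ s x⟩ = fixSign χ s x := by
    intro x
    have hd : Function.minimalPeriod (s • ·) x ∣ 2 := by
      refine Function.IsPeriodicPt.minimalPeriod_dvd ?_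
      show (s • ·)^[2] x = x
      rw [smul_iterate]
      show (s ^ 2) • x = x
      rw [hs2', one_smul]
    by_cases hx : s • x = x
    · have h1 : Function.minimalPeriod (s • ·) x = 1 := Function.minimalPeriod_eq_one_iff_isFixedPt.2 hx
      rw [fixSign, dif_pos hx]
      exact congrArg χ (Subtype.ext (show x.out⁻¹ * s ^ Function.minimalPeriod (s • ·) x * x.out = x.out⁻¹ * s * x.out by rw [h1, pow_one]))
    · have h2 : Function.minimalPeriod (s • ·) x = 2 :=
        ((Nat.dvd_prime Nat.prime_two).1 hd).resolve_left fun e => hx (Function.minimalPeriod_eq_one_iff_isFixedPt.1 e)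
      rw [fixSign, dif_neg hx, show (⟨x.out⁻¹ * s ^ Function.minimalPeriod (s • ·) x * x.out,
        QuotientGroup.out_conj_pow_minimalPeriod_mem _ s x⟩ : ↥H) = 1 from Subtype.ext (by
          show x.out⁻¹ * s ^ Function.minimalPeriod (s • ·) x * x.out = 1
          rw [h2, hs2', mul_one, inv_mul_cancel]), map_one]
  -- the product over all cosets
  have hall : MonoidHom.transfer χ s = ∏ x : G ⧸ H, fixSign χ s x := by
    rw [MonoidHom.transfer_eq_prod_quotient_orbitRel_zpowers_quot, ← Finset.prod_fiberwise Finset.univ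
      (fun x : G ⧸ H => (Quotient.mk'' x : Quotient (orbitRel (Subgroup.zpowers s) (G ⧸ H)))) (fixSign χ s)]
    refine Finset.prod_congr rfl fun q _ => ?_
    rw [hterm, Finset.prod_eq_single q.out]
    · intro x hx hne
      have hxq : (Quotient.mk'' x : Quotient (orbitRel (Subgroup.zpowers s) (G ⧸ H))) = Quotient.mk'' q.out := by
        rw [(Finset.mem_filter.1 hx).2, Quotient.out_eq']
      have he := (horb x q.out hxq).resolve_left hne
      rw [fixSign, dif_neg]
      intro hfix
      refine hne ?_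
      calc x = s • x := hfix.symm
        _ = q.out := by rw [he, ← mul_smul, hs2, one_smul]
    · intro h
      exact absurd (Finset.mem_filter.2 ⟨Finset.mem_univ q.out, Quotient.out_eq' q⟩) h
  rw [hall, ← Finset.mul_prod_erase Finset.univ _ (Finset.mem_univ ((1 : G) : G ⧸ H))]
  have hbase : fixSign χ s ((1 : G) : G ⧸ H) = χ ⟨s, hsH⟩ := by
    have hfix : s • ((1 : G) : G ⧸ H) = (1 : G) := smul_coe_eq.2 (by simpa using hsH)
    obtain ⟨h, hh⟩ : ∃ h : ↥H, ((1 : G) : G ⧸ H).out = h := by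
      refine ⟨⟨_, ?_⟩, rfl⟩
      have := (QuotientGroup.eq (s := H)).1 (QuotientGroup.out_eq' ((1 : G) : G ⧸ H))
      rw [mul_one] at this
      exact inv_mem_iff.1 this
    rw [fixSign, dif_pos hfix, show (⟨((1 : G) : G ⧸ H).out⁻¹ * s * ((1 : G) : G ⧸ H).out, smul_out_eq.1 hfix⟩ : ↥H) =
      h⁻¹ * ⟨s, hsH⟩ * h from Subtype.ext (by push_cast; rw [hh]), map_mul, map_mul, map_inv, mul_comm, ← mul_assoc,
      mul_inv_cancel, one_mul]
  rw [hbase]
  let Bad := {x : G ⧸ H // fixSign χ s x = -1 ∧ x ≠ ((1 : G) : G ⧸ H)}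
  have hfix1 : ∀ a : ↥E, (a : G) • ((1 : G) : G ⧸ H) = (1 : G) := fun a =>
    smul_coe_eq.2 (by simpa using hEH a.2)
  letI : MulAction ↥E Bad :=
    { smul := fun a x => ⟨(a : G) • x.1, by rw [fixSign_smul χ (hEs a a.2)]; exact x.2.1, fun h => x.2.2
        (smul_left_cancel (a : G) (h.trans (hfix1 a).symm))⟩
      one_smul := fun x => Subtype.ext (one_smul G x.1)
      mul_smul := fun a b x => Subtype.ext (mul_smul (a : G) (b : G) x.1) }
  have hempty : IsEmpty ↥(MulAction.fixedPoints ↥E Bad) := by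
    refine ⟨?_⟩
    rintro ⟨⟨x, hx1, hx0⟩, hxf⟩
    have hsx : s • x = x := by
      by_contra h
      rw [fixSign, dif_neg h] at hx1
      exact absurd hx1 (by decide)
    refine hx0 ?_
    have hg := hnone x.out (smul_out_eq.1 hsx) fun a ha =>
      smul_out_eq.1 (congrArg Subtype.val (hxf ⟨a, ha⟩))
    rw [← QuotientGroup.out_eq' x, QuotientGroup.eq, mul_one]
    exact inv_mem hg
  have heven : Even (Nat.card Bad) := by
    have h := hEp.card_modEq_card_fixedPoints Bad
    rw [Nat.card_of_isEmpty (α := ↥(MulAction.fixedPoints ↥E Bad))] at h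
    exact Nat.even_iff.2 h
  have hrest : ∏ x ∈ Finset.univ.erase ((1 : G) : G ⧸ H), fixSign χ s x = 1 := by
    rw [← Finset.prod_filter_mul_prod_filter_not (Finset.univ.erase ((1 : G) : G ⧸ H))
        (fun x => fixSign χ s x = -1),
      Finset.prod_congr rfl (g := fun _ => (-1 : ℤˣ)) fun x hx => (Finset.mem_filter.1 hx).2, Finset.prod_const,
      Finset.prod_eq_one (s := (Finset.univ.erase ((1 : G) : G ⧸ H)).filter fun x => ¬ fixSign χ s x = -1) fun x hx =>
        (Int.units_eq_one_or _).resolve_right (Finset.mem_filter.1 hx).2, mul_one]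
    have hc : ((Finset.univ.erase ((1 : G) : G ⧸ H)).filter fun x => fixSign χ s x = -1).card = Nat.card Bad := by
      rw [← Nat.card_eq_finsetCard]
      refine Nat.card_congr (Equiv.subtypeEquivRight fun x => ?_)
      simp [and_comm]
    rw [hc]
    exact heven.neg_one_pow
  rw [hrest, mul_one]

end Cfsg.Lib.FischerLarge
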