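import Cfsg.Agent.Lib.FischerLarge.Fi22Part.Local
import Cfsg.Agent.Lib.FischerLarge.Fi22Part.Transfer
import Mathlib.GroupTheory.Abelianization.Defs

/-!
# A subgroup of index two in the centraliser of a small involution
-/

set_option autoImplicit false
set_option maxRecDepth 4000

namespace Cfsg.Lib.FischerLarge

open Cfsg Cfsg.Lib.SUSixU43 Cfsg.Lib.Extra

universe u

variable {G : Type u} [Group G] [Finite G] {z : G} {Q : Subgroup G} (D : Coord z Q)

/-- The centraliser of two elements. -/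
def pairCent (a b : G) : Subgroup G :=
  Subgroup.centralizer ({a} : Set G) ⊓ Subgroup.centralizer ({b} : Set G)

omit [Finite G] in
theorem mem_pairCent {a b x : G} : x ∈ pairCent a b ↔ Commute x a ∧ Commute x b := by
  rw [pairCent, Subgroup.mem_inf, Subgroup.mem_centralizer_singleton_iff, Subgroup.mem_centralizer_singleton_iff]
  rfl

namespace Coord.Duo

variable {D} {t t2 : G} (h : D.Duo t t2)
include h

/-- Keeping the unordered pair. -/
def Keep (_h : D.Duo t t2) (y : G) : Prop := y * t2 * y⁻¹ = t2 ∨ y * t2 * y⁻¹ = t2 * t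

theorem keep_twice (w : G) (hw : w = t2 ∨ w = t2 * t) : w * t = t2 ∨ w * t = t2 * t := by
  rcases hw with rfl | rfl
  · exact Or.inr rfl
  · exact Or.inl (by rw [mul_assoc, h.sqT, mul_one])

theorem z_out (w : G) (hw : w = t2 ∨ w = t2 * t) : z * w ≠ t2 ∧ z * w ≠ t2 * t := by
  have hne : ∀ {a b : G}, a ∈ Q → b ∈ Q → z * a = b → D.cl a = D.cl b := fun {a b} ha hb e =>
    (D.cl_eq a ha b hb).2 (Or.inr e.symm)
  have hv : om • D.cl t ≠ (om + 1) • D.cl t := fun e => by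
    rw [add_smul, one_smul] at e
    exact h.v_ne (left_eq_add.1 e)
  have h3 := mul_mem h.t2Q h.tQ
  rcases hw with rfl | rfl <;> refine ⟨fun e => ?_, fun e => ?_⟩
  · exact D.ctx.ne_one (mul_eq_right.1 e)
  · have := hne h.t2Q h3 e
    rw [h.cl2, h.cl_mul] at this
    exact hv this
  · have := hne h3 h.t2Q e
    rw [h.cl2, h.cl_mul] at this
    exact hv this.symm
  · exact D.ctx.ne_one (mul_eq_right.1 e)

theorem keep_mul {a b : G} (haz : Commute a z) (hat : Commute a t) (hbz : Commute b z) (hbt : Commute b t) :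
    h.Keep (a * b) ↔ (h.Keep a ↔ h.Keep b) := by
  have ha' : ∀ w, w = t2 ∨ w = t2 * t → a * w * a⁻¹ = a * t2 * a⁻¹ ∨ a * w * a⁻¹ = a * t2 * a⁻¹ * t := by
    rintro w (rfl | rfl)
    · exact Or.inl rfl
    · exact Or.inr (by
        rw [show a * (t2 * t) * a⁻¹ = a * t2 * a⁻¹ * (a * t * a⁻¹) by group, hat.eq, mul_inv_cancel_right])
  have hzc : ∀ w, a * (z * w) * a⁻¹ = z * (a * w * a⁻¹) := fun w => by
    rw [show a * (z * w) * a⁻¹ = a * z * a⁻¹ * (a * w * a⁻¹) by group, haz.eq, mul_inv_cancel_right]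
  have key : ∀ w, w = t2 ∨ w = t2 * t →
      (((a * w * a⁻¹ = t2 ∨ a * w * a⁻¹ = t2 * t) ↔ h.Keep a) ∧
      ((z * (a * w * a⁻¹) = t2 ∨ z * (a * w * a⁻¹) = t2 * t) ↔ ¬ h.Keep a)) := by
    intro w hw
    have hout : ∀ u, (u = t2 ∨ u = t2 * t) → ¬ (z * u = t2 ∨ z * u = t2 * t) := fun u hu e => by
      rcases e with e | e
      exacts [(h.z_out u hu).1 e, (h.z_out u hu).2 e]
    by_cases hk : h.Keep a
    · have h1 : a * w * a⁻¹ = t2 ∨ a * w * a⁻¹ = t2 * t := by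
        rcases ha' w hw with e | e <;> rw [e]
        · exact hk
        · exact h.keep_twice _ hk
      exact ⟨iff_of_true h1 hk, iff_of_false (hout _ h1) (not_not_intro hk)⟩
    · obtain ⟨u, hu, e⟩ : ∃ u, (u = t2 ∨ u = t2 * t) ∧ a * w * a⁻¹ = z * u := by
        rcases (h.fix_cases haz hat).resolve_left hk with e0 | e0 <;> rcases ha' w hw with e | e <;> rw [e, e0]
        · exact ⟨_, Or.inl rfl, rfl⟩
        · exact ⟨t2 * t, Or.inr rfl, mul_assoc _ _ _⟩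
        · exact ⟨_, Or.inr rfl, rfl⟩
        · exact ⟨t2, Or.inl rfl, by rw [mul_assoc, mul_assoc t2, h.sqT, mul_one]⟩
      rw [e, ← mul_assoc z z, D.ctx.sq_z, one_mul]
      exact ⟨iff_of_false (hout _ hu) hk, iff_of_true hu hk⟩
  rcases h.fix_cases hbz hbt with hb | hb
  · rw [iff_true_right (show h.Keep b from hb), Keep, show a * b * t2 * (a * b)⁻¹ = a * (b * t2 * b⁻¹) * a⁻¹ by group]
    exact (key _ hb).1
  · obtain ⟨w, hw, e⟩ : ∃ w, (w = t2 ∨ w = t2 * t) ∧ b * t2 * b⁻¹ = z * w := by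
      rcases hb with e | e
      exacts [⟨_, Or.inl rfl, e⟩, ⟨_, Or.inr rfl, e⟩]
    have hkb : ¬ h.Keep b := by
      rw [Keep, e]
      rintro (e1 | e1)
      exacts [(h.z_out w hw).1 e1, (h.z_out w hw).2 e1]
    rw [iff_false_right hkb, Keep, show a * b * t2 * (a * b)⁻¹ = a * (b * t2 * b⁻¹) * a⁻¹ by group, e, hzc]
    exact (key _ hw).2

set_option maxHeartbeats 800000 in
/-- A subgroup of index two from the transfer. -/
theorem exists_half {s : G} (hs : D.Mate t s) (hperf : Group.IsPerfect ↥(pairCent t t2)) :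
    ∃ X1 : Subgroup G, X1 ≤ Subgroup.centralizer ({t} : Set G) ∧
      (∀ x ∈ Subgroup.centralizer ({t} : Set G), ∀ y ∈ X1, x * y * x⁻¹ ∈ X1) ∧
      (∀ a ∈ Subgroup.centralizer ({t} : Set G), ∀ b ∈ Subgroup.centralizer ({t} : Set G),
        a ∉ X1 → b ∉ X1 → a * b ∈ X1) ∧
      pairCent t t2 ≤ X1 ∧ s ∉ X1 := by
  classical
  obtain ⟨X, hX⟩ : ∃ X, X = Subgroup.centralizer ({t} : Set G) := ⟨_, rfl⟩
  rw [← hX]
  have hXm : ∀ {x : G}, x ∈ X ↔ Commute x t := by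
    intro x
    rw [hX, Subgroup.mem_centralizer_singleton_iff]
    rfl
  have hzX : z ∈ X := hXm.2 h.commTz.symm
  have hsX : s ∈ X := hXm.2 (hs.commTS h.tQ).symm
  have hsz : Commute s z := (D.ctx.central s hs.sQ).symm
  obtain ⟨Y, hY⟩ : ∃ Y : Subgroup ↥X, Y = Subgroup.centralizer ({⟨z, hzX⟩} : Set ↥X) := ⟨_, rfl⟩
  have hYm : ∀ {y : ↥X}, y ∈ Y ↔ Commute (y : G) z := by
    intro y
    rw [hY, Subgroup.mem_centralizer_singleton_iff, Subtype.ext_iff]
    rfl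
  let χ : ↥Y →* ℤˣ := MonoidHom.mk' (fun y => if h.Keep ((y : ↥X) : G) then 1 else -1) fun a b => by
    have hab := h.keep_mul (hYm.1 a.2) (hXm.1 (a : ↥X).2) (hYm.1 b.2) (hXm.1 (b : ↥X).2)
    by_cases ha : h.Keep ((a : ↥X) : G) <;> by_cases hb : h.Keep ((b : ↥X) : G) <;> simp [ha, hb, hab]
  obtain ⟨sX, hsXe⟩ : ∃ sX : ↥X, sX = ⟨s, hsX⟩ := ⟨_, rfl⟩
  have hsY : sX ∈ Y := hYm.2 (by rw [hsXe]; exact hsz)
  have hχs : χ ⟨sX, hsY⟩ = -1 := by
    refine if_neg fun e => ?_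
    have e : h.Keep (sX : G) := e
    rw [show (sX : G) = s by rw [hsXe], Keep, hs.moves h] at e
    rcases e with e | e
    exacts [(h.z_out t2 (Or.inl rfl)).1 e, (h.z_out t2 (Or.inl rfl)).2 e]
  obtain ⟨E', hE'⟩ : ∃ E' : Subgroup ↥X, E' = (Q ⊓ pairCent t s).subgroupOf X := ⟨_, rfl⟩
  have hE'm : ∀ {x : ↥X}, x ∈ E' ↔ (x : G) ∈ Q ∧ Commute (x : G) t ∧ Commute (x : G) s := by
    intro x
    rw [hE', Subgroup.mem_subgroupOf, Subgroup.mem_inf, mem_pairCent]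
  have htr : MonoidHom.transfer χ sX = -1 := by
    rw [transfer_single χ (Subtype.ext (by rw [hsXe]; exact hs.sqS)) hsY E' ?_
      (fun a ha => Subtype.ext (by rw [hsXe]; exact (hE'm.1 ha).2.2.eq))
      (fun a ha => hYm.2 (D.ctx.central _ (hE'm.1 ha).1).symm) ?_, hχs]
    · have hle : Q ⊓ pairCent t s ≤ X := fun x hx => hXm.2 (mem_pairCent.1 hx.2).1
      rw [hE']
      exact (D.ctx.two.to_le (inf_le_left : Q ⊓ pairCent t s ≤ Q)).of_equiv (Subgroup.subgroupOfEquivOfLe hle).symm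
    · intro g _ hga
      refine hYm.2 ?_
      have hc : ∀ a : ↥X, a ∈ E' → Commute (a : G) ((g : G) * z * (g : G)⁻¹) := fun a ha => by
        have h1 := (Commute.conj_iff (g : G)).2 (hYm.1 (hga a ha))
        rwa [show (g : G) * ((g⁻¹ * a * g : ↥X) : G) * (g : G)⁻¹ = (a : G) by push_cast; group] at h1
      have huz : Commute ((g : G) * z * (g : G)⁻¹) z :=
        (hc ⟨z, hzX⟩ (hE'm.2 ⟨D.ctx.mem, h.commTz.symm, hsz.symm⟩)).symm
      have := hs.only_z h.vA h.tQ (isConj_iff.2 ⟨(g : G), rfl⟩) huz fun x hx hxt hxs =>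
        (hc ⟨x, hXm.2 hxt.symm⟩ (hE'm.2 ⟨hx, hxt.symm, hxs.symm⟩)).symm
      exact mul_inv_eq_iff_eq_mul.1 this
  obtain ⟨f, hf⟩ : ∃ f : ↥X →* ℤˣ, f = MonoidHom.transfer χ := ⟨_, rfl⟩
  rw [← hf] at htr
  clear hf
  refine ⟨f.ker.map X.subtype, Subgroup.map_subtype_le _, ?_, ?_, ?_, ?_⟩
  · rintro x hx _ ⟨y, hy, rfl⟩
    exact ⟨⟨x, hx⟩ * y * ⟨x, hx⟩⁻¹, (MonoidHom.normal_ker f).conj_mem y hy _, rfl⟩
  · intro a ha b hb ha1 hb1
    have hval : ∀ x (hx : x ∈ X), x ∉ f.ker.map X.subtype → f ⟨x, hx⟩ = -1 := fun x hx hn =>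
      (Int.units_eq_one_or _).resolve_left fun e => hn ⟨⟨x, hx⟩, MonoidHom.mem_ker.2 e, rfl⟩
    exact ⟨⟨a, ha⟩ * ⟨b, hb⟩, MonoidHom.mem_ker.2 (by rw [map_mul, hval a ha ha1, hval b hb hb1]; rfl), rfl⟩
  · intro x hx
    have hle : pairCent t t2 ≤ X := fun y hy => hXm.2 (mem_pairCent.1 hy).1
    have h1 := Abelianization.commutator_subset_ker (f.comp (Subgroup.inclusion hle))
    rw [hperf.commutator_eq_top] at h1
    exact ⟨Subgroup.inclusion hle ⟨x, hx⟩,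
      MonoidHom.mem_ker.2 (MonoidHom.mem_ker.1 (h1 (Subgroup.mem_top (⟨x, hx⟩ : ↥(pairCent t t2))))), rfl⟩
  · rintro ⟨y, hy, e⟩
    have e' : y = sX := Subtype.ext (e.trans (by rw [hsXe]))
    have hy' : f y = 1 := hy
    rw [e', htr] at hy'
    exact absurd hy' (by decide)

end Coord.Duo

end Cfsg.Lib.FischerLarge
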