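import Cfsg.Agent.Lib.FischerLarge.FourCover
import Cfsg.Agent.Lib.FischerLarge.Fi22Part.Half
import Cfsg.Agent.Lib.Fischer.Relations.Centralizer.Order

/-!
# The centraliser of the pair
-/

set_option autoImplicit false
set_option maxRecDepth 4000

namespace Cfsg.Lib.FischerLarge

open Cfsg Cfsg.Lib.SUSixU43 Cfsg.Lib.Extra

universe u

variable {G : Type u} [Group G] [Finite G] {z : G} {Q : Subgroup G} (D : Coord z Q)

namespace Coord.Duo

variable {D} {t t2 : G} (h : D.Duo t t2)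
include h

/-- The four-group of the pair. -/
def four : Subgroup G where
  carrier := {x | x = 1 ∨ x = t ∨ x = t2 ∨ x = t2 * t}
  one_mem' := Or.inl rfl
  mul_mem' := by
    have hc : t * t2 = t2 * t := h.comm.eq
    have h1 := h.sqT
    have h2 := h.sq2
    rintro a b (rfl | rfl | rfl | rfl) (rfl | rfl | rfl | rfl) <;>
      simp only [Set.mem_ofPred_eq, one_mul, mul_one, h1, h2, hc, true_or, or_true]
    · rw [← mul_assoc, hc, mul_assoc, h1, mul_one]; simp
    · rw [← mul_assoc, h2, one_mul]; simp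
    · rw [mul_assoc, h1, mul_one]; simp
    · rw [mul_assoc, hc, ← mul_assoc, h2, one_mul]; simp
    · rw [mul_assoc, ← mul_assoc t, hc, mul_assoc t2 t t, h1, mul_one, h2]; simp
  inv_mem' := by
    rintro a (rfl | rfl | rfl | rfl)
    · exact Or.inl inv_one
    · exact Or.inr (Or.inl (inv_eq_of_mul_eq_one_left h.sqT))
    · exact Or.inr (Or.inr (Or.inl (inv_eq_of_mul_eq_one_left h.sq2)))
    · refine Or.inr (Or.inr (Or.inr ?_))
      rw [mul_inv_rev, inv_eq_of_mul_eq_one_left h.sqT, inv_eq_of_mul_eq_one_left h.sq2, h.comm.eq]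

theorem mem_four {x : G} : x ∈ h.four ↔ x = 1 ∨ x = t ∨ x = t2 ∨ x = t2 * t := Iff.rfl

theorem four_distinct : t ≠ 1 ∧ t2 ≠ 1 ∧ t2 * t ≠ 1 ∧ t ≠ t2 ∧ t ≠ t2 * t ∧ t2 ≠ t2 * t := by
  refine ⟨h.ptT.2.2.1, h.pt2.2.2.1, fun e => ?_, fun e => ?_, fun e => h.pt2.2.2.1 (right_eq_mul.1 e), fun e =>
    h.ptT.2.2.1 (left_eq_mul.1 e)⟩
  · have := congrArg D.cl e
    rw [h.cl_mul, D.cl_one] at this
    exact tau_om.2.2.1 ((smul_eq_zero.1 this).resolve_right h.v_ne)
  · have := congrArg D.cl e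
    rw [h.cl2] at this
    refine tau_om.2.2.1 ((smul_eq_zero.1 (show (om + 1) • D.cl t = 0 from ?_)).resolve_right h.v_ne)
    rw [add_smul, one_smul, ← this, v6_add_self]

theorem card_four : Nat.card ↥h.four = 4 := by
  classical
  obtain ⟨d1, d2, d3, d4, d5, d6⟩ := h.four_distinct
  have e : (h.four : Set G) = ↑({1, t, t2, t2 * t} : Finset G) := by
    ext x
    simp [h.mem_four]
  rw [← SetLike.coe_sort_coe, Nat.card_coe_set_eq, e, Set.ncard_coe_finset]
  simp [Ne.symm d1, Ne.symm d2, Ne.symm d3, d4, d5, d6]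

theorem isQuad : D.IsQuad (D.cl t) h.four := by
  refine ⟨h.vA, ?_, ?_, ?_, ?_, ?_, h.card_four⟩
  · rintro x (rfl | rfl | rfl | rfl)
    exacts [one_mem _, h.tQ, h.t2Q, mul_mem h.t2Q h.tQ]
  · rintro x (rfl | rfl | rfl | rfl)
    exacts [mul_one 1, h.sqT, h.sq2, by rw [h.comm.mul_mul_mul_comm, h.sq2, h.sqT, mul_one]]
  · rintro x (rfl | rfl | rfl | rfl) e
    · rfl
    · exact absurd e h.v_ne
    · rw [h.cl2] at e
      exact absurd ((smul_eq_zero.1 e).resolve_right h.v_ne) tau_om.2.2.2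
    · rw [h.cl_mul] at e
      exact absurd ((smul_eq_zero.1 e).resolve_right h.v_ne) tau_om.2.2.1
  · intro b
    rcases r4_scalar_cases b with rfl | rfl | rfl | rfl
    · exact ⟨1, Or.inl rfl, by rw [D.cl_one, zero_smul]⟩
    · exact ⟨t, Or.inr (Or.inl rfl), (one_smul _ _).symm⟩
    · exact ⟨t2, Or.inr (Or.inr (Or.inl rfl)), h.cl2⟩
    · exact ⟨t2 * t, Or.inr (Or.inr (Or.inr rfl)), by rw [h.cl_mul, add_comm]⟩
  · rintro x (rfl | rfl | rfl | rfl)
    exacts [⟨0, by rw [D.cl_one, zero_smul]⟩, ⟨1, (one_smul _ _).symm⟩, ⟨om, h.cl2⟩, ⟨om + 1, h.cl_mul⟩]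

theorem pairCent_eq : pairCent t t2 = Subgroup.centralizer (h.four : Set G) := by
  ext x
  rw [mem_pairCent, Subgroup.mem_centralizer_iff]
  constructor
  · rintro ⟨h1, h2⟩ y (rfl | rfl | rfl | rfl)
    exacts [by rw [one_mul, mul_one], h1.eq.symm, h2.eq.symm, (h2.mul_right h1).eq.symm]
  · intro hx
    exact ⟨(hx t (Or.inr (Or.inl rfl))).symm, (hx t2 (Or.inr (Or.inr (Or.inl rfl)))).symm⟩

theorem four_le_pairCent : h.four ≤ pairCent t t2 := by
  rw [h.pairCent_eq]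
  intro x hx
  rw [Subgroup.mem_centralizer_iff]
  intro y hy
  exact (D.quad_comm h.isQuad hy hx).eq

theorem t_mem : t ∈ pairCent t t2 := h.four_le_pairCent (Or.inr (Or.inl rfl))

theorem t2_mem : t2 ∈ pairCent t t2 := h.four_le_pairCent (Or.inr (Or.inr (Or.inl rfl)))

/-- The facts on the centraliser of the pair. -/
theorem cover {g₀ s : G} (hw : D.Wit g₀ s) :
    Cfsg.IsQuasisimple ↥(pairCent t t2) ∧
      (∀ x : ↥(pairCent t t2), x ∈ Subgroup.center ↥(pairCent t t2) ↔ (x : G) ∈ h.four) ∧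
      Nonempty (↥(pairCent t t2) ⧸ Subgroup.center ↥(pairCent t t2) ≃* Cfsg.PSU 6 R4 2) ∧
      Nat.card ↥(pairCent t t2) = 2 ^ 17 * 280665 := by
  obtain ⟨hq, hc, ⟨e⟩⟩ := D.quad_cover hw h.isQuad (K := R4) card_r4
  have hcard : Nat.card ↥(Subgroup.centralizer (h.four : Set G)) = 2 ^ 17 * 280665 := by
    have hle : h.four ≤ Subgroup.centralizer (h.four : Set G) := h.pairCent_eq ▸ h.four_le_pairCent
    rw [Subgroup.card_eq_card_quotient_mul_card_subgroup (Subgroup.center ↥(Subgroup.centralizer (h.four : Set G))),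
      Nat.card_congr e.toEquiv, Lib.Fischer.Relations.card_psu_six (by rw [card_r4]; norm_num), hc,
      Nat.card_congr (Subgroup.subgroupOfEquivOfLe hle).toEquiv, h.card_four]
    norm_num
  rw [h.pairCent_eq]
  exact ⟨hq, fun x => by rw [hc, Subgroup.mem_subgroupOf], ⟨e⟩, hcard⟩

end Coord.Duo

end Cfsg.Lib.FischerLarge
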