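import Cfsg.Agent.Lib.FischerLarge.SplitFar
import Cfsg.Agent.Lib.FischerLarge.PointsCode

/-!
# Commuting elements of the extraspecial group and the hyperplane of a singular vector
-/

set_option autoImplicit false

namespace Cfsg.Lib.FischerLarge

open Cfsg Cfsg.Lib.SUSixU43 Cfsg.Lib.Extra

universe u

theorem r4_sum_self : ∀ a : R4, a + a = 0 := by decide +kernel

theorem r4_trace_both : ∀ a : R4, a + a ^ 2 = 0 → om * a + (om * a) ^ 2 = 0 → a = 0 := by
  simp only [om]
  decide +kernel

theorem r4_trace_cases : ∀ a : R4, a + a ^ 2 = 0 ∨ a + a ^ 2 = 1 := by decide +kernel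

theorem r4_trace_bit : ∀ a : R4, a + a ^ 2 = 0 → a = 0 ∨ a = 1 := by decide +kernel

theorem r4_scalar_cases : ∀ a : R4, a = 0 ∨ a = 1 ∨ a = om ∨ a = 1 + om := by
  simp only [om]
  decide +kernel

theorem r4_bit_line : ∀ a p : R4, (p = 0 ∨ p = 1) → (a * p = 0 ∨ a * p = 1) → p = 0 ∨ a = 0 ∨ a = 1 := by
  decide +kernel

theorem v6_cancel_right (x y : V6) : x + y + y = x := by rw [add_assoc, v6_add_self, add_zero]

/-- A vector orthogonal to the whole space vanishes. -/
theorem herm_nondeg {u : V6} (h : ∀ x, hermForm 6 R4 2 u x = 0) : u = 0 := by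
  funext i
  have h1 := h (Pi.single i 1)
  rw [herm_conj_split (Pi.single i 1) u, herm_single, one_mul] at h1
  exact (r4_frob (u i) 0).2.1.symm.trans h1

/-- A pair spanning a nondegenerate plane. -/
structure Hyp2 (v w : V6) : Prop where
  vv : hermForm 6 R4 2 v v = 0
  ww : hermForm 6 R4 2 w w = 0
  vw : hermForm 6 R4 2 v w = 1

namespace Hyp2

variable {v w : V6} (h : Hyp2 v w)
include h

theorem wv : hermForm 6 R4 2 w v = 1 := by rw [herm_conj_split v w, h.vw, one_pow]

theorem v_ne : v ≠ 0 := fun e => by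
  have := h.vw
  rw [e, herm_zero_left] at this
  exact zero_ne_one this

theorem w_ne : w ≠ 0 := fun e => by
  have := h.vw
  rw [e, herm_zero_right] at this
  exact zero_ne_one this

theorem herm_plane (p q : R4) :
    hermForm 6 R4 2 (p • v + q • w) v = q ∧ hermForm 6 R4 2 (p • v + q • w) w = p := by
  constructor <;>
    simp only [herm_add_left, herm_scalar_left, h.vv, h.ww, h.vw, h.wv, mul_one, mul_zero, add_zero, zero_add]

/-- The part of a vector orthogonal to the plane. -/
def proj (_h : Hyp2 v w) (x : V6) : V6 :=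
  x + (hermForm 6 R4 2 x w • v + hermForm 6 R4 2 x v • w)

theorem proj_v (x : V6) : hermForm 6 R4 2 (h.proj x) v = 0 := by
  rw [proj, herm_add_left, (h.herm_plane _ _).1, r4_sum_self]

theorem proj_w (x : V6) : hermForm 6 R4 2 (h.proj x) w = 0 := by
  rw [proj, herm_add_left, (h.herm_plane _ _).2, r4_sum_self]

theorem split (x : V6) :
    x = h.proj x + (hermForm 6 R4 2 x w • v + hermForm 6 R4 2 x v • w) := (v6_cancel_right _ _).symm

theorem exists_perp : ∃ y : V6, y ≠ 0 ∧ hermForm 6 R4 2 y v = 0 ∧ hermForm 6 R4 2 y w = 0 := by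
  by_contra hno
  push Not at hno
  have h0 : ∀ x, h.proj x = 0 := fun x => by
    by_contra e
    exact hno _ e (h.proj_v x) (h.proj_w x)
  have hinj : Function.Injective fun x : V6 => (hermForm 6 R4 2 x v, hermForm 6 R4 2 x w) := by
    intro a b e
    have e1 := congrArg Prod.fst e
    have e2 := congrArg Prod.snd e
    simp only at e1 e2
    rw [h.split a, h.split b, h0, h0, e1, e2]
  have := Fintype.card_le_of_injective _ hinj
  rw [Fintype.card_fun, Fintype.card_prod, card_r4, Fintype.card_fin] at this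
  norm_num at this

/-- What is orthogonal to the hyperplane of the singular vector is a multiple of it. -/
theorem line_of_perp {u : V6} (hu : ∀ y, hermForm 6 R4 2 y v = 0 → hermForm 6 R4 2 u y = 0) :
    u = hermForm 6 R4 2 u w • v := by
  have huv : hermForm 6 R4 2 u v = 0 := hu v h.vv
  refine v6_eq_of_add (herm_nondeg fun x => ?_)
  set c := hermForm 6 R4 2 x v with hc
  have hy : hermForm 6 R4 2 (x + c • w) v = 0 := by
    rw [herm_add_left, herm_scalar_left, h.wv, mul_one, r4_sum_self]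
  have h1 := hu _ hy
  have h2 : hermForm 6 R4 2 v (x + c • w) = 0 := by rw [herm_conj_split _ v, hy]; exact zero_pow two_ne_zero
  rw [show x = x + c • w + c • w from (v6_cancel_right _ _).symm, herm_add_right, herm_add_left, herm_add_left,
    h1, herm_scalar_left, h2, herm_scalar_right, herm_scalar_right, herm_scalar_left, h.vw]
  simp only [mul_zero, add_zero, zero_add, mul_one]
  rw [← mul_add, r4_sum_self, mul_zero]

/-- A multiple of the singular vector orthogonal to the plane vanishes. -/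
theorem not_line {y : V6} (hy : y ≠ 0) (hyw : hermForm 6 R4 2 y w = 0) (a : R4) : y ≠ a • v := fun e => by
  rw [e, herm_scalar_left, h.vw, mul_one] at hyw
  exact hy (by rw [e, hyw, zero_smul])

end Hyp2

variable {G : Type u} [Group G] [Finite G] {z : G} {Q : Subgroup G} (D : Coord z Q)

theorem Coord.norm_zero_iff {a : G} (ha : a ∈ Q) :
    (a * a = 1 ∧ hermForm 6 R4 2 (D.cl a) (D.cl a) = 0) ∨ (a * a = z ∧ hermForm 6 R4 2 (D.cl a) (D.cl a) = 1) := by
  rcases D.ctx.sq a ha with e | e
  · exact Or.inl ⟨e, (D.cl_sq a ha).1 e⟩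
  · exact Or.inr ⟨e, (r4_norm _ (herm_conj _ _).symm).resolve_left fun e0 =>
      D.ctx.ne_one (e.symm.trans ((D.cl_sq a ha).2 e0))⟩

/-- Commuting in the extraspecial group. -/
theorem Coord.commute_Q_iff {a x : G} (ha : a ∈ Q) (hx : x ∈ Q) :
    Commute a x ↔ hermForm 6 R4 2 (D.cl a) (D.cl x) + hermForm 6 R4 2 (D.cl a) (D.cl x) ^ 2 = 0 := by
  obtain ⟨t, ht⟩ : ∃ t, t = hermForm 6 R4 2 (D.cl a) (D.cl x) + hermForm 6 R4 2 (D.cl a) (D.cl x) ^ 2 :=
    ⟨_, rfl⟩
  have hmul : hermForm 6 R4 2 (D.cl (a * x)) (D.cl (a * x)) =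
      hermForm 6 R4 2 (D.cl a) (D.cl a) + hermForm 6 R4 2 (D.cl x) (D.cl x) + t := by
    rw [D.cl_mul a ha x hx, herm_expand, herm_conj (D.cl a) (D.cl x), ← ht]
  rw [← ht]
  have hiff : a * x * (a * x) = a * a * (x * x) ↔ Commute a x := by
    constructor
    · intro h
      have h1 : x * (a * x) = a * (x * x) := mul_left_cancel (a := a) (by simpa only [mul_assoc] using h)
      exact (mul_right_cancel (b := x) (by rw [mul_assoc, mul_assoc]; exact h1)).symm
    · intro h
      rw [h.symm.mul_mul_mul_comm]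
  rw [← hiff]
  rcases D.norm_zero_iff (mul_mem ha hx) with ⟨e, n⟩ | ⟨e, n⟩ <;>
    rcases D.norm_zero_iff ha with ⟨e1, n1⟩ | ⟨e1, n1⟩ <;>
      rcases D.norm_zero_iff hx with ⟨e2, n2⟩ | ⟨e2, n2⟩ <;>
        rw [hmul, n1, n2] at n <;> rw [e, e1, e2] <;>
          rcases (ht.symm ▸ r4_trace_cases (hermForm 6 R4 2 (D.cl a) (D.cl x)) : t = 0 ∨ t = 1) with h | h <;>
            rw [h] at n ⊢ <;>
              simp only [D.ctx.sq_z, D.ctx.ne_one, D.ctx.ne_one.symm, r4_sum_self, zero_add, add_zero, mul_one,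
                one_mul, one_ne_zero, zero_ne_one] at n ⊢

end Cfsg.Lib.FischerLarge
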