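import Cfsg.Agent.Lib.FischerLarge.Fi22Part.Witness

/-!
# Elements centralising large parts of the extraspecial group
-/

set_option autoImplicit false
set_option maxRecDepth 4000

namespace Cfsg.Lib.FischerLarge

open Cfsg Cfsg.Lib.SUSixU43 Cfsg.Lib.Extra

universe u

theorem r4_trace_both_sq : ∀ a : R4, a + a ^ 2 = 0 → (om + 1) ^ 2 * a + ((om + 1) ^ 2 * a) ^ 2 = 0 → a = 0 := by
  simp only [om]
  decide +kernel

variable {G : Type u} [Group G] [Finite G] {z : G} {Q : Subgroup G} (D : Coord z Q)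

theorem Coord.om_A {v : V6} (hv : v ∈ D.A) : om • v ∈ D.A := by
  rw [← Zc_smul]
  exact D.orb.invA _ (Zc_mem D.c) v hv

theorem Coord.not_conj_A {a : G} (ha : a ∈ Q) (hA : D.cl a ∈ D.A) : ¬ IsConj z a := D.small_not_conj ha hA

include D in
theorem Coord.z_mul_swap {a b : G} (e : b = z * a) : a = z * b := by
  rw [e, ← mul_assoc z z, D.ctx.sq_z, one_mul]

/-- A noncentral involution with another one on its line. -/
structure Coord.Duo (t t2 : G) : Prop where
  tQ : t ∈ Q
  t2Q : t2 ∈ Q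
  vA : D.cl t ∈ D.A
  cl2 : D.cl t2 = om • D.cl t

/-- A third involution of the plane of the pair. -/
structure Coord.Mate (t s : G) : Prop where
  sQ : s ∈ Q
  sA : D.cl s ∈ D.A
  vwA : D.cl t + D.cl s ∈ D.A
  hyp : Hyp2 (D.cl t) (D.cl s)

theorem Coord.exists_duo {t : G} (ht : t ∈ Q) (hA : D.cl t ∈ D.A) : ∃ t2, D.Duo t t2 := by
  obtain ⟨t2, h2, e⟩ := D.cl_surj (om • D.cl t)
  exact ⟨t2, ht, h2, hA, e⟩

theorem Coord.exists_mate {t : G} (ht : t ∈ Q) (hA : D.cl t ∈ D.A) : ∃ s, D.Mate t s := by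
  obtain ⟨w, hw, hvw, h⟩ := D.exists_mate_vec hA
  obtain ⟨s, hs, rfl⟩ := D.cl_surj w
  exact ⟨s, hs, hw, hvw, ⟨(D.orb.sing _ (Or.inl hA)).2, (D.orb.sing _ (Or.inl hw)).2, h⟩⟩

namespace Coord.Duo

variable {D} {t t2 : G} (h : D.Duo t t2)
include h

theorem ptT : D.Pt t := (D.pt_iff h.tQ).2 (Or.inl h.vA)

theorem A2 : D.cl t2 ∈ D.A := h.cl2 ▸ D.om_A h.vA

theorem pt2 : D.Pt t2 := (D.pt_iff h.t2Q).2 (Or.inl h.A2)

theorem cl_mul : D.cl (t2 * t) = (om + 1) • D.cl t := by
  rw [D.cl_mul _ h.t2Q _ h.tQ, h.cl2, add_smul, one_smul]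

theorem A3 : D.cl (t2 * t) ∈ D.A := by
  rw [h.cl_mul, ← tau_om.2.1, pow_two, mul_smul]
  exact D.om_A (D.om_A h.vA)

theorem sqT : t * t = 1 := h.ptT.2.1

theorem sq2 : t2 * t2 = 1 := h.pt2.2.1

theorem commTz : Commute t z := (D.ctx.central t h.tQ).symm

theorem comm2z : Commute t2 z := (D.ctx.central t2 h.t2Q).symm

theorem comm : Commute t t2 := by
  rw [D.commute_Q_iff h.tQ h.t2Q, h.cl2, herm_scalar_right, (D.orb.sing _ (Or.inl h.vA)).2, mul_zero,
    zero_pow two_ne_zero, add_zero]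

theorem v_ne : D.cl t ≠ 0 := (D.orb.sing _ (Or.inl h.vA)).1

/-- Commuting with both is orthogonality. -/
theorem commE {x : G} (hx : x ∈ Q) :
    Commute t x ∧ Commute t2 x ↔ hermForm 6 R4 2 (D.cl t) (D.cl x) = 0 := by
  rw [D.commute_Q_iff h.tQ hx, D.commute_Q_iff h.t2Q hx, h.cl2, herm_scalar_left]
  refine ⟨fun e => r4_trace_both _ e.1 e.2, fun e => ?_⟩
  rw [e]
  simp

theorem perp_mem {y : V6} (hy : hermForm 6 R4 2 y (D.cl t) = 0) :
    ∃ x ∈ Q, D.cl x = y ∧ Commute t x ∧ Commute t2 x := by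
  obtain ⟨x, hx, rfl⟩ := D.cl_surj y
  exact ⟨x, hx, rfl, (h.commE hx).2 (by rw [herm_conj_split, hy]; exact zero_pow two_ne_zero)⟩

/-- The images of the second involution. -/
theorem fix_cases {y : G} (hz : Commute y z) (ht : Commute y t) :
    (y * t2 * y⁻¹ = t2 ∨ y * t2 * y⁻¹ = t2 * t) ∨
      (y * t2 * y⁻¹ = z * t2 ∨ y * t2 * y⁻¹ = z * (t2 * t)) := by
  have hQ := conj_mem D.ctx hz h.t2Q
  have hfix : D.sg y (D.cl t) = D.cl t := by
    rw [← D.cl_conj hz h.tQ, ht.eq, mul_inv_cancel_right]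
  obtain ⟨tw, htw⟩ := D.exists_twist hz
  have e : D.cl (y * t2 * y⁻¹) = tau tw om • D.cl t := by
    rw [D.cl_conj hz h.t2Q, h.cl2, htw, hfix]
  cases tw
  · rw [show tau false om = om from tau_apply _ _, ← h.cl2] at e
    rcases (D.cl_eq _ hQ _ h.t2Q).1 e with e' | e'
    · exact Or.inl (Or.inl e'.symm)
    · exact Or.inr (Or.inl (D.z_mul_swap e'))
  · rw [tau_om.1, ← h.cl_mul] at e
    rcases (D.cl_eq _ hQ _ (mul_mem h.t2Q h.tQ)).1 e with e' | e'
    · exact Or.inl (Or.inr e'.symm)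
    · exact Or.inr (Or.inr (D.z_mul_swap e'))

/-- What fixes the hyperplane modulo the first involution lies in the line. -/
theorem rigid_line {g₀ s₀ : G} (hw : D.Wit g₀ s₀) {u : G} (hz : Commute u z) (ht : Commute u t)
    (hact : ∀ x ∈ Q, Commute t x → Commute t2 x → u * x * u⁻¹ = x ∨ u * x * u⁻¹ = x * t) :
    u ∈ Q ∧ ∃ a : R4, D.cl u = a • D.cl t := by
  obtain ⟨s, hs⟩ := D.exists_mate h.tQ h.vA
  have hp := hs.hyp
  set v := D.cl t with hv
  set w := D.cl s
  have hv0 : v ≠ 0 := hp.v_ne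
  have hfix : D.sg u v = v := by rw [hv, ← D.cl_conj hz h.tQ, ht.eq, mul_inv_cancel_right]
  have hH : ∀ y, hermForm 6 R4 2 y v = 0 → ∃ p : R4, (p = 0 ∨ p = 1) ∧ D.sg u y = y + p • v := fun y hy => by
    obtain ⟨x, hx, rfl, hxt, hx2⟩ := h.perp_mem hy
    rw [← D.cl_conj hz hx]
    rcases hact x hx hxt hx2 with e | e <;> rw [e]
    · exact ⟨0, Or.inl rfl, by rw [zero_smul, add_zero]⟩
    · exact ⟨1, Or.inr rfl, by rw [D.cl_mul x hx t h.tQ, one_smul]⟩
  have hsc : ∀ (a : R4) y, hermForm 6 R4 2 y v = 0 → hermForm 6 R4 2 (a • y) v = 0 := fun a y e => by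
    rw [herm_scalar_left, e, mul_zero]
  obtain ⟨y0, hy0, hy0v, hy0w⟩ := hp.exists_perp
  obtain ⟨tw, htw⟩ := D.exists_twist hz
  cases tw with
  | true =>
    exfalso
    obtain ⟨p, -, ep⟩ := hH y0 hy0v
    obtain ⟨q, -, eq'⟩ := hH (om • y0) (hsc _ _ hy0v)
    rw [htw, ep, tau_om.1, smul_add, add_smul, one_smul, smul_smul, add_assoc] at eq'
    have h1 : y0 + ((om + 1) * p) • v = q • v := add_left_cancel eq'
    have e : y0 = (q + (om + 1) * p) • v := by rw [add_smul, ← h1, v6_cancel_right]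
    exact hp.not_line hy0 hy0w _ e
  | false =>
    have hlin : ∀ (a : R4) y, D.sg u (a • y) = a • D.sg u y := fun a y => by
      rw [htw, tau_apply]
      rfl
    have huM : u ∈ D.M := by
      by_contra hM
      have e := D.outer_twist hw.1 hw.2.1 hw.2.2 hz hM om v
      rw [hlin, hfix, tau_om.1, add_smul, one_smul] at e
      exact hv0 (left_eq_add.1 e)
    have hid : ∀ y, hermForm 6 R4 2 y v = 0 → D.sg u y = y := fun y hy => by
      obtain ⟨p, hpb, ep⟩ := hH y hy
      obtain ⟨q, hqb, eq'⟩ := hH (om • y) (hsc _ _ hy)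
      rw [hlin, ep, smul_add, smul_smul] at eq'
      have e : om * p = q := smul_left_injective R4 hv0 (add_left_cancel eq')
      have hp0 : p = 0 := by
        rcases hpb with rfl | rfl
        · rfl
        · rw [mul_one] at e
          rcases hqb with rfl | rfl
          · exact absurd e tau_om.2.2.2
          · exact absurd (by rw [e, r4_sum_self] : om + 1 = 0) tau_om.2.2.1
      rw [ep, hp0, zero_smul, add_zero]
    have hherm : ∀ x y, hermForm 6 R4 2 (D.sg u x) (D.sg u y) = hermForm 6 R4 2 x y := fun x y => by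
      rw [D.sg_M ⟨u, huM⟩, D.sg_M ⟨u, huM⟩, herm_smul]
    have hd : ∀ y, hermForm 6 R4 2 y v = 0 → hermForm 6 R4 2 (D.sg u w + w) y = 0 := fun y hy => by
      have e := hherm w y
      rw [hid y hy] at e
      rw [herm_add_left, e, r4_sum_self]
    obtain ⟨a, ha⟩ : ∃ a : R4, D.sg u w = w + a • v := by
      refine ⟨hermForm 6 R4 2 (D.sg u w + w) w, ?_⟩
      rw [← hp.line_of_perp hd, add_comm (D.sg u w) w, ← add_assoc, v6_add_self, zero_add]
    have hab : a = 0 ∨ a = 1 := r4_trace_bit a (by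
      have e := hherm w w
      rw [ha, hp.ww, herm_add_left, herm_add_right, herm_add_right, hp.ww, herm_scalar_right, herm_scalar_left,
        hp.wv, herm_scalar_left, herm_scalar_right, hp.vw, hp.vv] at e
      simp only [mul_one, mul_zero, zero_add, add_zero] at e
      rw [add_comm]
      exact e)
    have hform : ∀ x, D.sg u x = x + (hermForm 6 R4 2 x v * a) • v := fun x => by
      have hy : hermForm 6 R4 2 (x + hermForm 6 R4 2 x v • w) v = 0 := by
        rw [herm_add_left, herm_scalar_left, hp.wv, mul_one, r4_sum_self]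
      calc D.sg u x = D.sg u ((x + hermForm 6 R4 2 x v • w) + hermForm 6 R4 2 x v • w) := by rw [v6_cancel_right]
        _ = _ := by rw [D.sg_add hz, hid _ hy, hlin, ha, smul_add, smul_smul, ← add_assoc, v6_cancel_right]
    rcases hab with rfl | rfl
    · have huQ : u ∈ Q := D.mem_of_sg hz fun x => by rw [hform, mul_zero, zero_smul, add_zero]
      refine ⟨huQ, hermForm 6 R4 2 (D.cl u) w, hp.line_of_perp fun y hy => ?_⟩
      have key : ∀ y, hermForm 6 R4 2 y v = 0 →
          hermForm 6 R4 2 (D.cl u) y + hermForm 6 R4 2 (D.cl u) y ^ 2 = 0 := fun y hy => by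
        obtain ⟨x, hx, rfl, hxt, hx2⟩ := h.perp_mem hy
        have hc : Commute u x := by
          rcases hact x hx hxt hx2 with e | e
          · exact mul_inv_eq_iff_eq_mul.1 e
          · exfalso
            rcases D.ctx.comm u huQ x hx with e' | e'
            · rw [mul_inv_eq_one.1 e'] at e
              exact h.ptT.2.2.1 (left_eq_mul.1 e)
            · rw [mul_inv_eq_iff_eq_mul.1 e', (D.ctx.central x hx).eq] at e
              exact h.ptT.2.2.2 (mul_left_cancel e).symm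
        exact (D.commute_Q_iff huQ hx).1 hc
      refine r4_trace_both_sq _ (key y hy) ?_
      have e := key ((om + 1) • y) (hsc _ _ hy)
      rwa [herm_scalar_right] at e
    · exfalso
      refine no_transvection D.c_lt hp (D.π_mem ⟨u, huM⟩) fun x => ?_
      rw [← D.sg_M ⟨u, huM⟩, hform, mul_one]

end Coord.Duo

namespace Coord.Mate

variable {D} {t s : G} (h : D.Mate t s) (htQ : t ∈ Q)
include h

theorem sqS : s * s = 1 := (D.cl_sq s h.sQ).2 h.hyp.ww

theorem commTS (htQ : t ∈ Q) : Commute t s := by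
  rw [D.commute_Q_iff htQ h.sQ, h.hyp.vw, one_pow, r4_sum_self]

theorem moves {t2 : G} (hd : D.Duo t t2) : s * t2 * s⁻¹ = z * t2 := by
  have hne : ¬ Commute s t2 := by
    rw [D.commute_Q_iff h.sQ hd.t2Q, hd.cl2, herm_scalar_right, h.hyp.wv, mul_one, (r4_frob om 0).2.1,
      tau_om.2.1]
    intro e
    rw [add_right_comm, r4_sum_self, zero_add] at e
    exact one_ne_zero e
  rcases D.ctx.comm s h.sQ t2 hd.t2Q with e | e
  · exact absurd (mul_inv_eq_iff_eq_mul.1 (mul_inv_eq_one.1 e)) hne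
  · exact mul_inv_eq_iff_eq_mul.1 e

/-- What centralises the perpendicular of the plane lies in the plane. -/
theorem rigid_plane (htQ : t ∈ Q) {u : G} (hz : Commute u z)
    (hact : ∀ x ∈ Q, Commute t x → Commute s x → Commute u x) :
    u ∈ Q ∧ ∃ p q : R4, (p = 0 ∨ p = 1) ∧ (q = 0 ∨ q = 1) ∧ D.cl u = p • D.cl t + q • D.cl s := by
  have hp := h.hyp
  set v := D.cl t with hv
  set w := D.cl s with hw
  have hfix : ∀ y, hermForm 6 R4 2 v y + hermForm 6 R4 2 v y ^ 2 = 0 →
      hermForm 6 R4 2 w y + hermForm 6 R4 2 w y ^ 2 = 0 → ∃ x ∈ Q, D.cl x = y ∧ Commute u x := fun y e1 e2 => by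
    obtain ⟨x, hx, rfl⟩ := D.cl_surj y
    exact ⟨x, hx, rfl, hact x hx ((D.commute_Q_iff htQ hx).2 e1) ((D.commute_Q_iff h.sQ hx).2 e2)⟩
  have hid : ∀ y, hermForm 6 R4 2 v y + hermForm 6 R4 2 v y ^ 2 = 0 →
      hermForm 6 R4 2 w y + hermForm 6 R4 2 w y ^ 2 = 0 → D.sg u y = y := fun y e1 e2 => by
    obtain ⟨x, hx, rfl, hc⟩ := hfix y e1 e2
    rw [← D.cl_conj hz hx, hc.eq, mul_inv_cancel_right]
  have hperp : ∀ y, hermForm 6 R4 2 y v = 0 → hermForm 6 R4 2 y w = 0 → ∀ a : R4,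
      hermForm 6 R4 2 v (a • y) = 0 ∧ hermForm 6 R4 2 w (a • y) = 0 := fun y e1 e2 a => by
    rw [herm_scalar_right, herm_scalar_right, herm_conj_split y v, herm_conj_split y w, e1, e2]
    simp
  have hperp' : ∀ y, hermForm 6 R4 2 y v = 0 → hermForm 6 R4 2 y w = 0 → ∀ a : R4, D.sg u (a • y) = a • y :=
    fun y e1 e2 a => hid _ (by rw [(hperp y e1 e2 a).1]; simp) (by rw [(hperp y e1 e2 a).2]; simp)
  have hvfix : D.sg u v = v := hid v (by rw [hp.vv]; simp) (by rw [hp.wv, one_pow, r4_sum_self])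
  have hwfix : D.sg u w = w := hid w (by rw [hp.vw, one_pow, r4_sum_self]) (by rw [hp.ww]; simp)
  obtain ⟨y0, hy0, hy0v, hy0w⟩ := hp.exists_perp
  obtain ⟨tw, htw⟩ := D.exists_twist hz
  cases tw with
  | true =>
    exfalso
    have e := hperp' y0 hy0v hy0w om
    have e1 := hperp' y0 hy0v hy0w 1
    rw [one_smul] at e1
    rw [htw, e1, tau_om.1, add_smul, one_smul] at e
    exact hy0 (add_eq_left.1 e)
  | false =>
    have hlin : ∀ (a : R4) y, D.sg u (a • y) = a • D.sg u y := fun a y => by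
      rw [htw, tau_apply]
      rfl
    have huQ : u ∈ Q := D.mem_of_sg hz fun x => by
      rw [hp.split x, D.sg_add hz, D.sg_add hz, hlin, hlin, hvfix, hwfix]
      have := hperp' _ (hp.proj_v x) (hp.proj_w x) 1
      rw [one_smul] at this
      rw [this]
    have hc : ∀ y, hermForm 6 R4 2 v y + hermForm 6 R4 2 v y ^ 2 = 0 →
        hermForm 6 R4 2 w y + hermForm 6 R4 2 w y ^ 2 = 0 →
        hermForm 6 R4 2 (D.cl u) y + hermForm 6 R4 2 (D.cl u) y ^ 2 = 0 := by
      intro y e1 e2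
      obtain ⟨x, hx, rfl, hcx⟩ := hfix y e1 e2
      exact (D.commute_Q_iff huQ hx).1 hcx
    obtain ⟨c, hcdef⟩ : ∃ c, c = D.cl u := ⟨_, rfl⟩
    rw [← hcdef] at hc
    have hcv : hermForm 6 R4 2 c v + hermForm 6 R4 2 c v ^ 2 = 0 :=
      hc v (by rw [hp.vv]; simp) (by rw [hp.wv, one_pow, r4_sum_self])
    have hcw : hermForm 6 R4 2 c w + hermForm 6 R4 2 c w ^ 2 = 0 :=
      hc w (by rw [hp.vw, one_pow, r4_sum_self]) (by rw [hp.ww]; simp)
    -- the part off the plane
    have hcp : ∀ y, hermForm 6 R4 2 y v = 0 → hermForm 6 R4 2 y w = 0 → hermForm 6 R4 2 c y = 0 := by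
      intro y e1 e2
      have key : ∀ a : R4, hermForm 6 R4 2 c (a • y) + hermForm 6 R4 2 c (a • y) ^ 2 = 0 := fun a =>
        hc _ (by rw [(hperp y e1 e2 a).1]; simp) (by rw [(hperp y e1 e2 a).2]; simp)
      refine r4_trace_both_sq _ ?_ ?_
      · simpa using key 1
      · have := key (om + 1)
        rwa [herm_scalar_right] at this
    have hz0 : hp.proj c = 0 := herm_nondeg fun x => by
      have e3 : ∀ y, hermForm 6 R4 2 y v = 0 → hermForm 6 R4 2 y w = 0 →
          hermForm 6 R4 2 (hp.proj c) y = 0 := fun y e1 e2 => by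
        rw [Hyp2.proj, herm_add_left, hcp y e1 e2, herm_add_left, herm_scalar_left, herm_scalar_left,
          herm_conj_split y v, herm_conj_split y w, e1, e2]
        simp
      rw [hp.split x, herm_add_right, e3 _ (hp.proj_v x) (hp.proj_w x), herm_add_right, herm_scalar_right,
        herm_scalar_right, hp.proj_v, hp.proj_w]
      simp
    refine ⟨huQ, _, _, r4_trace_bit _ hcw, r4_trace_bit _ hcv, ?_⟩
    rw [← hcdef]
    conv_lhs => rw [hp.split c, hz0, zero_add]

/-- A conjugate of the central involution centralising that perpendicular is the central involution. -/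
theorem only_z (htA : D.cl t ∈ D.A) (htQ : t ∈ Q) {u : G} (hconj : IsConj z u) (hz : Commute u z)
    (hact : ∀ x ∈ Q, Commute t x → Commute s x → Commute u x) : u = z := by
  obtain ⟨huQ, p, q, hp, hq, e⟩ := h.rigid_plane htQ hz hact
  by_contra hne
  rcases hp with rfl | rfl <;> rcases hq with rfl | rfl <;> simp only [zero_smul, one_smul, add_zero, zero_add] at e
  · rcases (D.cl_eq 1 (one_mem _) u huQ).1 (by rw [D.cl_one, e]) with e' | e'
    · exact D.ctx.ne_one (isConj_one_left.1 (e' ▸ hconj))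
    · exact hne (e'.trans (mul_one z))
  · exact D.not_conj_A huQ (e ▸ h.sA) hconj
  · exact D.not_conj_A huQ (e ▸ htA) hconj
  · exact D.not_conj_A huQ (e ▸ h.vwA) hconj

end Coord.Mate

end Cfsg.Lib.FischerLarge
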