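import Cfsg.Agent.Lib.FischerLarge.Fi22Part.Local
import Cfsg.Agent.Lib.FischerLarge.Fusion
import Mathlib.GroupTheory.Sylow

/-!
# Outer elements of an overgroup of index two in the centraliser of a small involution
-/

set_option autoImplicit false
set_option maxRecDepth 4000

namespace Cfsg.Lib.FischerLarge

open Cfsg Cfsg.Lib.SUSixU43 Cfsg.Lib.Extra

universe u

/-- An overgroup of index two in which the central involution is central in a Sylow subgroup and its extraspecial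
group is normal and self-centralising. -/
structure Over {X : Type u} [Group X] (G₀ : Subgroup X) (z : ↥G₀) (Q : Subgroup ↥G₀) : Prop where
  index : G₀.index = 2
  central : ∃ P : Sylow 2 ↥G₀, z ∈ (P : Subgroup ↥G₀) ∧ ∀ x ∈ (P : Subgroup ↥G₀), Commute x z
  norm : ∀ a : X, Commute a (z : X) → ∀ x ∈ Q, ∃ y ∈ Q, a * (x : X) * a⁻¹ = (y : X)
  cent : ∀ a : X, Commute a (z : X) → (∀ x ∈ Q, Commute a (x : X)) → a ∈ G₀

variable {X : Type u} [Group X] [Finite X] {G₀ : Subgroup X} {z : ↥G₀} {Q : Subgroup ↥G₀} (D : Coord z Q)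
  (O : Over G₀ z Q)

include D O in
/-- An outer element centralises the central involution. -/
theorem Over.exists_outer_z : ∃ a : X, a ∉ G₀ ∧ Commute a (z : X) := by
  haveI : G₀.Normal := Subgroup.normal_of_index_eq_two O.index
  haveI : Fact (Nat.Prime 2) := ⟨Nat.prime_two⟩
  obtain ⟨P, hzP, hP⟩ := O.central
  have hQP : Q ≤ (P : Subgroup ↥G₀) := by
    have h1 : IsPGroup 2 ↥(Q ⊔ (P : Subgroup ↥G₀)) :=
      IsPGroup.to_sup_of_normal_left' D.ctx.two P.isPGroup' fun x hx => D.ctx.norm x (hP x hx)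
    rw [← P.is_maximal' h1 le_sup_right]
    exact le_sup_left
  obtain ⟨x, hx⟩ : ∃ x : X, x ∉ G₀ := by
    by_contra hno
    push Not at hno
    have h1 : G₀ = ⊤ := eq_top_iff.2 fun x _ => hno x
    have h2 := O.index
    rw [h1, Subgroup.index_top] at h2
    norm_num at h2
  obtain ⟨σ, hσ⟩ : ∃ σ : MulAut ↥G₀, σ = MulAut.conjNormal x := ⟨_, rfl⟩
  obtain ⟨g, hg⟩ := MulAction.exists_smul_eq ↥G₀ P ((P.comapOfInjective σ.symm.toMonoidHom σ.symm.injective
    (by rw [MonoidHom.range_eq_top.2 σ.symm.surjective]; exact le_top)))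
  have hmem : ∀ w ∈ (P : Subgroup ↥G₀), σ.symm (g * w * g⁻¹) ∈ (P : Subgroup ↥G₀) := fun w hw => by
    have h1 : g * w * g⁻¹ ∈ (g • P : Sylow 2 ↥G₀) := by
      rw [Sylow.smul_def]
      exact ⟨w, hw, rfl⟩
    rw [hg] at h1
    exact h1
  have hc : ∀ w ∈ (P : Subgroup ↥G₀), Commute (g⁻¹ * σ z * g) w := fun w hw => by
    have h1 := (hP _ (hmem w hw)).map σ
    rw [MulEquiv.apply_symm_apply] at h1
    have h2 := (Commute.conj_iff g⁻¹).2 h1
    rw [inv_inv, show g⁻¹ * (g * w * g⁻¹) * g = w by group] at h2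
    exact h2.symm
  have hz : g⁻¹ * σ z * g = z := by
    rcases D.ctx.cent _ fun a ha => hc a (hQP ha) with e | e
    · exfalso
      have h1 : σ z = 1 := by
        rw [show σ z = g * (g⁻¹ * σ z * g) * g⁻¹ by group, e]; group
      exact D.ctx.ne_one (σ.injective (h1.trans (map_one σ).symm))
    · exact e
  refine ⟨(g : X)⁻¹ * x, fun h => hx ?_, ?_⟩
  · have := mul_mem g.2 h
    rwa [mul_inv_cancel_left] at this
  · have h1 := congrArg Subtype.val hz
    push_cast at h1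
    rw [hσ, MulAut.conjNormal_apply] at h1
    refine mul_inv_eq_iff_eq_mul.1 ?_
    rw [mul_inv_rev, inv_inv]
    calc (g : X)⁻¹ * x * z * (x⁻¹ * g) = (g : X)⁻¹ * (x * z * x⁻¹) * g := by group
      _ = z := h1

include D O in
/-- An outer element centralises both. -/
theorem Over.exists_outer_t {g₀ s₀ : ↥G₀} (hw : D.Wit g₀ s₀) {t : ↥G₀} (ht : t ∈ Q) (hA : D.cl t ∈ D.A) :
    ∃ a : X, a ∉ G₀ ∧ Commute a (z : X) ∧ Commute a (t : X) := by
  haveI : G₀.Normal := Subgroup.normal_of_index_eq_two O.index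
  obtain ⟨a, ha, haz⟩ := O.exists_outer_z D
  obtain ⟨y, hyQ, hy⟩ := O.norm a haz t ht
  have hp : D.Pt t := (D.pt_iff ht).2 (Or.inl hA)
  obtain ⟨σ, hσ⟩ : ∃ σ : MulAut ↥G₀, σ = MulAut.conjNormal a := ⟨_, rfl⟩
  have hσz : σ z = z := Subtype.ext (by rw [hσ, MulAut.conjNormal_apply, haz.eq, mul_inv_cancel_right])
  have hσt : σ t = y := Subtype.ext (by rw [hσ, MulAut.conjNormal_apply, hy])
  have hyp : D.Pt y := by
    refine ⟨hyQ, ?_, fun e => hp.2.2.1 (σ.injective (by rw [hσt, e, map_one])), fun e => hp.2.2.2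
      (σ.injective (by rw [hσt, hσz, e]))⟩
    rw [← hσt, ← map_mul, hp.2.1, map_one]
  have hyA : D.cl y ∈ D.A := by
    refine ((D.pt_iff hyQ).1 hyp).resolve_right fun hB => D.not_conj_A ht hA ?_
    obtain ⟨g, hg⟩ := isConj_iff.1 (D.class_B hw hyQ hB)
    refine isConj_iff.2 ⟨σ.symm g, σ.injective ?_⟩
    rw [map_mul, map_mul, map_inv, MulEquiv.apply_symm_apply, hσz, hσt, hg]
  obtain ⟨m, hm, hmy⟩ := D.conj_in_M hyp ht (D.orb.transA _ hyA _ hA)
  have hmz : Commute (m : X) (z : X) := congrArg Subtype.val (D.m_comm ⟨m, hm⟩).eq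
  refine ⟨(m : X) * a, fun h => ha ?_, hmz.mul_left haz, mul_inv_eq_iff_eq_mul.1 ?_⟩
  · have := mul_mem (inv_mem m.2) h
    rwa [inv_mul_cancel_left] at this
  · have h1 := congrArg Subtype.val hmy
    push_cast at h1
    calc (m : X) * a * t * ((m : X) * a)⁻¹ = (m : X) * (a * t * a⁻¹) * (m : X)⁻¹ := by group
      _ = (t : X) := by rw [hy, h1]

include D O in
/-- An outer element does not centralise the centraliser of a small involution. -/
theorem Over.not_cent_all {g₀ s₀ : ↥G₀} (hw : D.Wit g₀ s₀) {t t2 : ↥G₀} (h : D.Duo t t2) {c : X} (hc : c ∉ G₀)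
    (hcent : ∀ x : ↥G₀, Commute x t → Commute c (x : X)) : False := by
  haveI : G₀.Normal := Subgroup.normal_of_index_eq_two O.index
  have hcz : Commute c (z : X) := hcent z h.commTz.symm
  have hct : Commute c (t : X) := hcent t (Commute.refl t)
  obtain ⟨σ, hσ⟩ : ∃ σ : MulAut ↥G₀, σ = MulAut.conjNormal c := ⟨_, rfl⟩
  have hσv : ∀ x : ↥G₀, (σ x : X) = c * x * c⁻¹ := fun x => by rw [hσ, MulAut.conjNormal_apply]
  have hfix : ∀ x : ↥G₀, Commute x t → σ x = x := fun x hx =>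
    Subtype.ext (by rw [hσv, (hcent x hx).eq, mul_inv_cancel_right])
  have hσz : σ z = z := hfix z h.commTz.symm
  have hσt : σ t = t := hfix t (Commute.refl t)
  have hσQ : ∀ x ∈ Q, σ x ∈ Q := fun x hx => by
    obtain ⟨y, hy, e⟩ := O.norm c hcz x hx
    rwa [show σ x = y from Subtype.ext (by rw [hσv, e])]
  obtain ⟨y, hy, hyt⟩ := D.ctx.exists_move h.tQ h.ptT.2.2.1 h.ptT.2.2.2
  -- every element of the extraspecial group is centralising or a product with the moving one
  have hsplit : ∀ x ∈ Q, Commute x t ∨ Commute (y⁻¹ * x) t := fun x hx => by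
    rcases D.ctx.comm x hx t h.tQ with e | e
    · exact Or.inl (mul_inv_eq_iff_eq_mul.1 (mul_inv_eq_one.1 e))
    · refine Or.inr (mul_inv_eq_iff_eq_mul.1 ?_)
      have e' : x * t * x⁻¹ = z * t := mul_inv_eq_iff_eq_mul.1 e
      rw [show y⁻¹ * x * t * (y⁻¹ * x)⁻¹ = y⁻¹ * (x * t * x⁻¹) * y by group, e', ← hyt]
      group
  obtain ⟨w, hw'⟩ : ∃ w, w = y⁻¹ * σ y := ⟨_, rfl⟩
  have hwQ : w ∈ Q := hw' ▸ mul_mem (inv_mem hy) (hσQ y hy)
  have hwfix : ∀ x ∈ Q, Commute x t → Commute w x := fun x hx hxt => by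
    have hQy : ∀ x ∈ Q, σ y * x * (σ y)⁻¹ = y * x * y⁻¹ → Commute (y⁻¹ * σ y) x := fun x hx e => by
      refine mul_inv_eq_iff_eq_mul.1 ?_
      rw [show y⁻¹ * σ y * x * (y⁻¹ * σ y)⁻¹ = y⁻¹ * (σ y * x * (σ y)⁻¹) * y by group, e]
      group
    rw [hw']
    refine hQy x hx ?_
    have hzx : y * x * y⁻¹ = x ∨ y * x * y⁻¹ = z * x := by
      rcases D.ctx.comm y hy x hx with e | e
      · exact Or.inl (mul_inv_eq_one.1 e)
      · exact Or.inr (mul_inv_eq_iff_eq_mul.1 e)
    calc σ y * x * (σ y)⁻¹ = σ (y * x * y⁻¹) := by rw [map_mul, map_mul, map_inv, hfix x hxt]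
      _ = y * x * y⁻¹ := by
        rcases hzx with e | e <;> rw [e]
        · exact hfix x hxt
        · rw [map_mul, hσz, hfix x hxt]
  have hall : σ y = y → False := fun e => hc (O.cent c hcz fun x hx => by
    have key : σ x = x := by
      rcases hsplit x hx with h1 | h1
      · exact hfix x h1
      · have h2 := hfix _ h1
        rw [map_mul, map_inv, e] at h2
        exact mul_left_cancel h2
    have := congrArg Subtype.val key
    rw [hσv] at this
    exact mul_inv_eq_iff_eq_mul.1 this)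
  by_cases hw1 : w = 1
  · exact hall (mul_left_cancel (a := y⁻¹) (by rw [← hw', hw1, inv_mul_cancel]))
  by_cases hwz : w = z
  · -- correct by the involution
    have e : σ y = z * y := by
      rw [show σ y = y * w by rw [hw', mul_inv_cancel_left], hwz, (D.ctx.central y hy).eq]
    refine hc ?_
    have htz : Commute (t : X) (z : X) := congrArg Subtype.val h.commTz.eq
    have h1 := O.cent ((t : X) * c) (htz.mul_left hcz) fun x hx => by
      have key : t * σ x * t⁻¹ = x := by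
        have hy' : t * σ y * t⁻¹ = y := by
          have e2 : t * y * t⁻¹ = z * y := by
            rcases D.ctx.comm t h.tQ y hy with e' | e'
            · exfalso
              have h2 : y * t * y⁻¹ = t := by
                rw [← (mul_inv_eq_iff_eq_mul.1 (mul_inv_eq_one.1 e') : t * y = y * t), mul_inv_cancel_right]
              rw [hyt] at h2
              exact D.ctx.ne_one (mul_eq_right.1 h2)
            · exact mul_inv_eq_iff_eq_mul.1 e'
          rw [e, show t * (z * y) * t⁻¹ = t * z * t⁻¹ * (t * y * t⁻¹) by group, e2, h.commTz.eq,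
            mul_inv_cancel_right, ← mul_assoc, D.ctx.sq_z, one_mul]
        rcases hsplit x hx with h1 | h1
        · rw [hfix x h1, h1.symm.eq, mul_inv_cancel_right]
        · have h2 : σ x = σ y * (y⁻¹ * x) := by
            rw [← hfix _ h1, ← map_mul, mul_inv_cancel_left]
          rw [h2, show t * (σ y * (y⁻¹ * x)) * t⁻¹ = t * σ y * t⁻¹ * (t * (y⁻¹ * x) * t⁻¹) by group, hy', h1.symm.eq,
            mul_inv_cancel_right, mul_inv_cancel_left]
      have h3 := congrArg Subtype.val key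
      push_cast at h3
      rw [hσv] at h3
      refine mul_inv_eq_iff_eq_mul.1 ?_
      rw [show (t : X) * c * x * ((t : X) * c)⁻¹ = (t : X) * (c * x * c⁻¹) * (t : X)⁻¹ by group, h3]
    have := mul_mem (inv_mem t.2) h1
    rwa [inv_mul_cancel_left] at this
  -- the other two values
  have hwt : w = t ∨ w = z * t := by
    by_contra hno
    push Not at hno
    obtain ⟨y₂, hy₂, hy₂w, hy₂t⟩ := D.exists_sep hwQ hw1 hwz h.tQ hno.1 hno.2
    rw [← (hwfix y₂ hy₂ hy₂t).eq, mul_inv_cancel_right] at hy₂w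
    exact D.ctx.ne_one (right_eq_mul.1 hy₂w)
  have hcly : D.cl (σ y) = D.cl y + D.cl t := by
    rw [show σ y = y * w by rw [hw', mul_inv_cancel_left], D.cl_mul y hy w hwQ]
    rcases hwt with e | e <;> rw [e]
    rw [D.cl_z_mul h.tQ]
  -- the scalar element
  obtain ⟨n, hn⟩ : ∃ n : ↥G₀, n = (D.three : ↥G₀) := ⟨_, rfl⟩
  have hnz : Commute n z := hn ▸ D.m_comm D.three
  have hncl : ∀ q ∈ Q, D.cl (n * q * n⁻¹) = om • D.cl q := fun q hq => hn ▸ D.cl_three hq
  have hnQ : ∀ q ∈ Q, n * q * n⁻¹ ∈ Q := fun q hq => conj_mem D.ctx hnz hq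
  have hperp : ∀ q ∈ Q, Commute t q → Commute t2 q → Commute t (n⁻¹ * q * n) ∧ Commute t2 (n⁻¹ * q * n) := by
    intro q hq h1 h2
    have hq' : n⁻¹ * q * n ∈ Q := by simpa using conj_mem D.ctx hnz.inv_left hq
    refine (h.commE hq').2 ?_
    have e := hncl _ hq'
    rw [show n * (n⁻¹ * q * n) * n⁻¹ = q by group] at e
    have e0 := (h.commE hq).1 ⟨h1, h2⟩
    rw [e, herm_scalar_right] at e0
    exact (mul_eq_zero.1 e0).resolve_left (pow_ne_zero 2 tau_om.2.2.2)
  obtain ⟨u, hu⟩ : ∃ u, u = σ n * n⁻¹ := ⟨_, rfl⟩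
  have huz : Commute u z := hu ▸ (hσz ▸ hnz.map σ : Commute (σ n) z).mul_left hnz.inv_left
  have hnt : Commute (n⁻¹ * t * n) t := by
    have hq' : n⁻¹ * t * n ∈ Q := by simpa using conj_mem D.ctx hnz.inv_left h.tQ
    exact ((hperp t h.tQ (Commute.refl t) h.comm.symm).1).symm
  have hconj : ∀ x, Commute x t → σ (n⁻¹ * x * n) = n⁻¹ * x * n → u * x * u⁻¹ = x := fun x hx e => by
    calc u * x * u⁻¹ = σ n * (n⁻¹ * x * n) * (σ n)⁻¹ := by rw [hu]; group
      _ = σ (n * (n⁻¹ * x * n) * n⁻¹) := by rw [map_mul σ (n * (n⁻¹ * x * n)), map_mul σ n, map_inv, e]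
      _ = σ x := by congr 1; group
      _ = x := hfix x hx
  have hut : Commute u t := mul_inv_eq_iff_eq_mul.1 (hconj t (Commute.refl t) (hfix _ hnt))
  obtain ⟨huQ, -⟩ := h.rigid_line hw huz hut fun x hx h1 h2 =>
    Or.inl (hconj x h1.symm (hfix _ (hperp x hx h1 h2).1.symm))
  have hy'Q := hnQ y hy
  have hσy' : D.cl (σ (n * y * n⁻¹)) = om • (D.cl y + D.cl t) := by
    rw [show σ (n * y * n⁻¹) = u * (n * σ y * n⁻¹) * u⁻¹ by rw [hu, map_mul, map_mul, map_inv]; group,
      D.cl_conj huz (hnQ _ (hσQ y hy)), D.sg_Q huQ, hncl _ (hσQ y hy), hcly]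
  rcases hsplit _ hy'Q with h1 | h1
  · rw [hfix _ h1, hncl y hy, smul_add] at hσy'
    exact tau_om.2.2.2 ((smul_eq_zero.1 (left_eq_add.1 hσy')).resolve_right h.v_ne)
  · obtain ⟨x, hx⟩ : ∃ x, x = y⁻¹ * (n * y * n⁻¹) := ⟨_, rfl⟩
    have hxQ : x ∈ Q := hx ▸ mul_mem (inv_mem hy) hy'Q
    have e : n * y * n⁻¹ = y * x := by rw [hx, mul_inv_cancel_left]
    have e2 : D.cl (σ (n * y * n⁻¹)) = D.cl (n * y * n⁻¹) + D.cl t := by
      rw [e, map_mul, hfix x (hx ▸ h1), D.cl_mul _ (hσQ y hy) _ hxQ, hcly, D.cl_mul y hy x hxQ]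
      abel
    rw [e2, hncl y hy, smul_add] at hσy'
    have e3 : D.cl t = om • D.cl t := add_left_cancel hσy'
    refine tau_om.2.2.1 ((smul_eq_zero.1 (show (om + 1) • D.cl t = 0 from ?_)).resolve_right h.v_ne)
    rw [add_smul, one_smul, ← e3, v6_add_self]

end Cfsg.Lib.FischerLarge
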