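import Cfsg.Agent.Lib.FischerLarge.Fi22Part.Aut
import Cfsg.Agent.Lib.FischerLarge.Fi22Part.OuterBase

/-!
# The outer involution centralising both halves
-/

set_option autoImplicit false
set_option maxRecDepth 4000

namespace Cfsg.Lib.FischerLarge

open Cfsg Cfsg.Lib.SUSixU43 Cfsg.Lib.Extra
open scoped commutatorElement

universe u

variable {X : Type u} [Group X] [Finite X] {G₀ : Subgroup X} {z : ↥G₀} {Q : Subgroup ↥G₀} {D : Coord z Q}
  (O : Over G₀ z Q) {g₀ s₀ : ↥G₀} {t t2 : ↥G₀} (h : D.Duo t t2) {X1 : Subgroup ↥G₀} {o : ↥G₀}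

include h in
theorem Coord.Duo.commutator_mem_half (H : h.IsHalf X1 o) {a b : ↥G₀} (ha : Commute a t) (hb : Commute b t) :
    a * b * a⁻¹ * b⁻¹ ∈ X1 := by
  have haC := mem_cent_of_commute ha
  have hbC := mem_cent_of_commute hb
  by_cases ha1 : a ∈ X1
  · rw [show a * b * a⁻¹ * b⁻¹ = a * (b * a⁻¹ * b⁻¹) by group]
    exact mul_mem ha1 (H.conj b hbC _ (inv_mem ha1))
  by_cases hb1 : b ∈ X1
  · exact mul_mem (H.conj a haC b hb1) (inv_mem hb1)
  rw [show a * b * a⁻¹ * b⁻¹ = a * b * (a⁻¹ * b⁻¹) by group]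
  exact mul_mem (H.index a haC b hbC ha1 hb1)
    (H.index _ (inv_mem haC) _ (inv_mem hbC) (fun e => ha1 (inv_mem_iff.1 e)) fun e => hb1 (inv_mem_iff.1 e))

include O h in
set_option maxHeartbeats 1600000 in
/-- An outer element centralising the half. -/
theorem Coord.Duo.exists_outer_cent (hw : D.Wit g₀ s₀) (H : h.IsHalf X1 o) :
    ∃ c : X, c ∉ G₀ ∧ Commute c (t : X) ∧ ∀ k ∈ X1, Commute c (k : X) := by
  classical
  haveI hGn : G₀.Normal := Subgroup.normal_of_index_eq_two O.index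
  haveI := h.half_normal H
  obtain ⟨a1, ha1, -, ha1t⟩ := O.exists_outer_t D hw h.tQ h.vA
  obtain ⟨eW⟩ := h.part_fi22 H hw
  obtain ⟨C, hC⟩ : ∃ C, C = Subgroup.centralizer ({(t : X)} : Set X) := ⟨_, rfl⟩
  have hCm : ∀ {x : X}, x ∈ C ↔ Commute x (t : X) := by
    intro x
    rw [hC, Subgroup.mem_centralizer_singleton_iff]
    rfl
  have hsub : ∀ k : ↥X1, Commute ((k : ↥G₀) : X) (t : X) := fun k =>
    congrArg Subtype.val (commute_of_mem_cent (H.le k.2)).eq
  have hqs := h.half_quasisimple H hw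
  -- the conjugate of a member
  have hinv : ∀ x ∈ C, ∀ k ∈ X1, MulAut.conjNormal x k ∈ X1 := by
    intro x hx k hk
    have hxt : MulAut.conjNormal x t = t := Subtype.ext (by
      rw [MulAut.conjNormal_apply, (hCm.1 hx).eq, mul_inv_cancel_right])
    obtain ⟨f, hf⟩ : ∃ f : ↥X1 →* ↥G₀, f = (MulAut.conjNormal x).toMonoidHom.comp X1.subtype := ⟨_, rfl⟩
    have hfc : ∀ a, Commute (f a) t := fun a => by
      have h1 := (commute_of_mem_cent (H.le a.2)).map (MulAut.conjNormal x)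
      rw [hxt] at h1
      rw [hf]
      exact h1
    have h1 : (⟨k, hk⟩ : ↥X1) ∈ commutator ↥X1 := by rw [hqs.1.commutator_eq_top]; exact Subgroup.mem_top _
    have hle : (commutator ↥X1).map f ≤ X1 := by
      rw [commutator_def, Subgroup.map_commutator, Subgroup.commutator_le]
      rintro _ ⟨a, -, rfl⟩ _ ⟨b, -, rfl⟩
      rw [commutatorElement_def]
      exact h.commutator_mem_half H (hfc a) (hfc b)
    have h2 := hle (Subgroup.mem_map_of_mem f h1)
    rw [hf] at h2
    exact h2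
  let cj : ↥C → ↥X1 ≃* ↥X1 := fun x =>
    { toFun := fun y => ⟨MulAut.conjNormal (x : X) (y : ↥G₀), hinv _ x.2 _ y.2⟩
      invFun := fun y => ⟨MulAut.conjNormal (x : X)⁻¹ (y : ↥G₀), hinv _ (inv_mem x.2) _ y.2⟩
      left_inv := fun y => Subtype.ext (by
        show MulAut.conjNormal (x : X)⁻¹ (MulAut.conjNormal (x : X) (y : ↥G₀)) = y
        rw [← MulAut.mul_apply, ← map_mul, inv_mul_cancel, map_one, MulAut.one_apply])
      right_inv := fun y => Subtype.ext (by
        show MulAut.conjNormal (x : X) (MulAut.conjNormal (x : X)⁻¹ (y : ↥G₀)) = y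
        rw [← MulAut.mul_apply, ← map_mul, mul_inv_cancel, map_one, MulAut.one_apply])
      map_mul' := fun a b => Subtype.ext (map_mul (MulAut.conjNormal (x : X)) (a : ↥G₀) (b : ↥G₀)) }
  have hN : ∀ x : ↥C, ((Subgroup.zpowers t).subgroupOf X1).map (cj x : ↥X1 →* ↥X1) =
      (Subgroup.zpowers t).subgroupOf X1 := fun x => by
    have hxt : MulAut.conjNormal (x : X) t = t := Subtype.ext (by
      rw [MulAut.conjNormal_apply, (hCm.1 x.2).eq, mul_inv_cancel_right])
    ext y
    rw [Subgroup.mem_map]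
    constructor
    · rintro ⟨w, hw', rfl⟩
      rw [Subgroup.mem_subgroupOf] at hw' ⊢
      show MulAut.conjNormal (x : X) (w : ↥G₀) ∈ _
      rcases h.mem_zpowers_t.1 hw' with e | e <;> rw [e]
      · exact h.mem_zpowers_t.2 (Or.inl (map_one _))
      · exact h.mem_zpowers_t.2 (Or.inr hxt)
    · intro hy
      refine ⟨y, hy, Subtype.ext ?_⟩
      show MulAut.conjNormal (x : X) (y : ↥G₀) = y
      rw [Subgroup.mem_subgroupOf] at hy
      rcases h.mem_zpowers_t.1 hy with e | e <;> rw [e]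
      · exact map_one _
      · exact hxt
  let ρ : ↥C →* MulAut (↥X1 ⧸ (Subgroup.zpowers t).subgroupOf X1) :=
    MonoidHom.mk' (fun x => QuotientGroup.congr _ _ (cj x) (hN x)) fun a b => MulEquiv.ext fun w => by
      obtain ⟨y, rfl⟩ := QuotientGroup.mk_surjective w
      show (QuotientGroup.mk (cj (a * b) y) : ↥X1 ⧸ (Subgroup.zpowers t).subgroupOf X1) =
        QuotientGroup.mk (cj a (cj b y))
      refine congrArg QuotientGroup.mk (Subtype.ext ?_)
      show MulAut.conjNormal ((a : X) * b) (y : ↥G₀) = MulAut.conjNormal (a : X) (MulAut.conjNormal (b : X) (y : ↥G₀))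
      rw [map_mul, MulAut.mul_apply]
  have hρ : ∀ (x : ↥C) (y : ↥X1), ρ x (QuotientGroup.mk y) = QuotientGroup.mk (cj x y) := fun x y => rfl
  obtain ⟨ψ, hψ⟩ : ∃ ψ : ↥C →* MulAut Cfsg.Spor.Fi22, ψ = (MulAut.congr eW).toMonoidHom.comp ρ := ⟨_, rfl⟩
  haveI : Finite (MulAut Cfsg.Spor.Fi22) := Nat.finite_of_card_ne_zero (by
    rw [Fischer.Relations.card_mulAut_fi22,
      show Nat.card Cfsg.Spor.Fi22 = _ from (CosetEnum.Fi22Pres.isFi22 : Cfsg.IsFi22 Cfsg.Spor.Fi22).2]
    decide)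
  -- the orders
  have hC0 : Nat.card ↥(Subgroup.centralizer ({t} : Set ↥G₀)) = 2 * Nat.card (MulAut Cfsg.Spor.Fi22) := by
    haveI : ((Subgroup.zpowers t).subgroupOf (Subgroup.centralizer ({t} : Set ↥G₀))).Normal :=
      ⟨fun a ha g => by
        rw [Subgroup.mem_subgroupOf] at ha ⊢
        have hg : Commute (g : ↥G₀) t := commute_of_mem_cent g.2
        push_cast
        rcases h.mem_zpowers_t.1 ha with e | e <;> rw [e]
        · exact h.mem_zpowers_t.2 (Or.inl (by group))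
        · exact h.mem_zpowers_t.2 (Or.inr (by rw [hg.eq, mul_inv_cancel_right]))⟩
    obtain ⟨e⟩ := h.cent_mulAut H hw
    have ht2 : Nat.card ↥(Subgroup.zpowers t) = 2 := by
      rw [Nat.card_zpowers, orderOf_eq_prime (by rw [pow_two, h.sqT]) h.ptT.2.2.1]
    have hle : Subgroup.zpowers t ≤ Subgroup.centralizer ({t} : Set ↥G₀) :=
      Subgroup.zpowers_le.2 (mem_cent_of_commute (Commute.refl t))
    rw [Subgroup.card_eq_card_quotient_mul_card_subgroup
      ((Subgroup.zpowers t).subgroupOf (Subgroup.centralizer ({t} : Set ↥G₀))), Nat.card_congr e.toEquiv,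
      Nat.card_congr (Subgroup.subgroupOfEquivOfLe hle).toEquiv, ht2, mul_comm]
  have hCcard : Nat.card ↥C = 2 * (2 * Nat.card (MulAut Cfsg.Spor.Fi22)) := by
    have h1 := (G₀.subgroupOf C).card_mul_index
    have h2 : (G₀.subgroupOf C).index = 2 := by
      rw [Subgroup.index_eq_two_iff]
      refine ⟨⟨a1, hCm.2 ha1t⟩, fun b => ?_⟩
      simp only [Subgroup.mem_subgroupOf, Subgroup.coe_mul]
      rw [Subgroup.mul_mem_iff_of_index_two O.index]
      by_cases hb : (b : X) ∈ G₀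
      · exact Or.inr ⟨hb, fun e => ha1 (e.1 hb)⟩
      · exact Or.inl ⟨iff_of_false hb ha1, hb⟩
    have h3 : Nat.card ↥(G₀.subgroupOf C) = Nat.card ↥(Subgroup.centralizer ({t} : Set ↥G₀)) :=
      Nat.card_congr
        { toFun := fun x => ⟨⟨((x : ↥C) : X), x.2⟩, mem_cent_of_commute (Subtype.ext (hCm.1 (x : ↥C).2).eq)⟩
          invFun := fun x => ⟨⟨((x : ↥G₀) : X), hCm.2 (congrArg Subtype.val (commute_of_mem_cent x.2).eq)⟩,
            (x : ↥G₀).2⟩
          left_inv := fun x => rfl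
          right_inv := fun x => rfl }
    rw [h2, h3, hC0] at h1
    rw [← h1, mul_comm]
  obtain ⟨c, hck, hc1, hct'⟩ : ∃ c : ↥C, ψ c = 1 ∧ (c : X) ≠ 1 ∧ (c : X) ≠ (t : X) := by
    by_contra hno
    push Not at hno
    have h1 := ψ.ker.card_mul_index
    rw [Subgroup.index_ker, hCcard] at h1
    have h2 : Nat.card ↥ψ.ker ≤ 2 := by
      refine (Nat.card_le_card_of_injective (fun x : ↥ψ.ker => (⟨((x : ↥C) : X), ?_⟩ :
        ↥(↑({1, (t : X)} : Finset X) : Set X))) fun a b e => ?_).trans ?_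
      · simp only [Finset.coe_insert, Finset.coe_singleton, Set.mem_insert_iff, Set.mem_singleton_iff]
        by_cases e : ((x : ↥C) : X) = 1
        · exact Or.inl e
        · exact Or.inr (hno _ x.2 e)
      · exact Subtype.ext (Subtype.ext (congrArg Subtype.val e :))
      · rw [Nat.card_coe_set_eq, Set.ncard_coe_finset]
        exact Finset.card_le_two
    have h3 : Nat.card ↥ψ.range ≤ Nat.card (MulAut Cfsg.Spor.Fi22) :=
      Nat.card_le_card_of_injective Subtype.val Subtype.val_injective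
    have h4 : 0 < Nat.card (MulAut Cfsg.Spor.Fi22) := Nat.card_pos
    nlinarith [Nat.mul_le_mul h2 h3]
  have hct := hCm.1 c.2
  have hmod : ∀ k ∈ X1, MulAut.conjNormal (c : X) k = k ∨ MulAut.conjNormal (c : X) k = k * t := fun k hk => by
    rw [hψ, MonoidHom.comp_apply, MulEquiv.coe_toMonoidHom, map_eq_one_iff _ (MulEquiv.injective _)] at hck
    have e1 := congrArg (fun f : MulAut _ => f (QuotientGroup.mk (⟨k, hk⟩ : ↥X1))) hck
    simp only [hρ, MulAut.one_apply] at e1
    rw [h.half_mk_eq H] at e1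
    rcases e1 with e2 | e2
    · exact Or.inl e2.symm
    · refine Or.inr ?_
      have e3 : k = MulAut.conjNormal (c : X) k * t := e2
      calc MulAut.conjNormal (c : X) k = MulAut.conjNormal (c : X) k * t * t := by rw [mul_assoc, h.sqT, mul_one]
        _ = k * t := by rw [← e3]
  -- the sign
  obtain ⟨χ, hχ⟩ : ∃ χ : ↥X1 →* ℤˣ, ∀ k : ↥X1, χ k = 1 → MulAut.conjNormal (c : X) (k : ↥G₀) = k := by
    have hne : ∀ k : ↥G₀, k * t ≠ k := fun k e => h.ptT.2.2.1 (mul_eq_left.1 e)
    refine ⟨MonoidHom.mk' (fun k => if MulAut.conjNormal (c : X) (k : ↥G₀) = k then 1 else -1) fun a b => ?_,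
      fun k hk => ?_⟩
    · have hbt : Commute (b : ↥G₀) t := commute_of_mem_cent (H.le b.2)
      rcases hmod a a.2 with ea | ea <;> rcases hmod b b.2 with eb | eb <;>
        simp only [Subgroup.coe_mul, map_mul, ea, eb, if_true, hne, if_false]
      · rfl
      · rw [if_neg (by rw [← mul_assoc]; exact hne _)]; rfl
      · rw [if_neg (by rw [mul_assoc, ← hbt.eq, ← mul_assoc]; exact hne _)]; rfl
      · rw [if_pos (by
          rw [mul_assoc (a : ↥G₀) t, ← mul_assoc t, ← hbt.eq, mul_assoc (b : ↥G₀), h.sqT, mul_one])]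
        rfl
    · by_contra hk'
      rw [MonoidHom.mk'_apply, if_neg hk'] at hk
      exact absurd hk (by decide)
  have htriv : ∀ k : ↥X1, χ k = 1 := fun k => by
    have h1 := Abelianization.commutator_subset_ker χ
    rw [hqs.1.commutator_eq_top] at h1
    exact MonoidHom.mem_ker.1 (h1 (Subgroup.mem_top k))
  refine ⟨c, fun hcG => ?_, hct, fun k hk => ?_⟩
  · rcases h.cent_half H hw (show Commute (⟨c, hcG⟩ : ↥G₀) t from Subtype.ext hct.eq) (fun k hk => Or.inl
      (Subtype.ext (by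
        have e := congrArg Subtype.val (hχ ⟨k, hk⟩ (htriv _))
        rw [MulAut.conjNormal_apply] at e
        exact e))) with e | e
    · exact hc1 (congrArg Subtype.val e)
    · exact hct' (congrArg Subtype.val e)
  · have e := congrArg Subtype.val (hχ ⟨k, hk⟩ (htriv _))
    rw [MulAut.conjNormal_apply] at e
    exact mul_inv_eq_iff_eq_mul.1 e

include O h in
set_option maxHeartbeats 800000 in
/-- An outer involution centralising both halves. -/
theorem Coord.Duo.exists_outer_invol (hw : D.Wit g₀ s₀) (h2 : D.Duo t2 (t2 * t)) {X2 : Subgroup ↥G₀} {o2 : ↥G₀}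
    (H : h.IsHalf X1 o) (H2 : h2.IsHalf X2 o2) :
    ∃ d : X, d ∉ G₀ ∧ d * d = 1 ∧ (∀ k ∈ X1, Commute d (k : X)) ∧ (∀ k ∈ X2, Commute d (k : X)) := by
  obtain ⟨c, hc, hct, hck⟩ := h.exists_outer_cent O hw H
  obtain ⟨c', hc', hct', hck'⟩ := h2.exists_outer_cent O hw H2
  have hP2 : pairCent t t2 ≤ X2 := fun x hx =>
    H2.pair_le (mem_pairCent.2 ⟨(mem_pairCent.1 hx).2, (mem_pairCent.1 hx).2.mul_right (mem_pairCent.1 hx).1⟩)
  have e0 : c'⁻¹ * c ∈ G₀ := by
    rw [Subgroup.mul_mem_iff_of_index_two O.index, inv_mem_iff]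
    exact iff_of_false hc' hc
  obtain ⟨e, he⟩ : ∃ e : ↥G₀, (e : X) = c'⁻¹ * c := ⟨⟨_, e0⟩, rfl⟩
  have hcomm : ∀ k ∈ pairCent t t2, Commute e k := fun k hk => Subtype.ext (by
    push_cast
    rw [he]
    exact ((hck' k (hP2 hk)).inv_left.mul_left (hck k (H.pair_le hk))).eq)
  have heP : e ∈ pairCent t t2 := mem_pairCent.2 ⟨hcomm t h.t_mem, hcomm t2 h.t2_mem⟩
  obtain ⟨-, hcen, -, -⟩ := h.cover hw
  have heF : e ∈ h.four := (hcen ⟨e, heP⟩).1 (Subgroup.mem_center_iff.2 fun k =>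
    Subtype.ext (hcomm k k.2).symm.eq)
  have hee : e * e = 1 := h.isQuad.sq e heF
  have hce : c = c' * e := by rw [he, mul_inv_cancel_left]
  -- the squares
  have hsq : ∀ {t' t'' : ↥G₀} (hd : D.Duo t' t'') {Y : Subgroup ↥G₀} {o' : ↥G₀}, hd.IsHalf Y o' → ∀ a : X,
      a ∉ G₀ → Commute a (t' : X) → (∀ k ∈ Y, Commute a (k : X)) → a * a = 1 ∨ a * a = (t' : X) := by
    intro t' t'' hd Y o' HY a ha hat hak
    have hm : a * a ∈ G₀ := by
      rw [Subgroup.mul_mem_iff_of_index_two O.index]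
    rcases hd.cent_half HY hw (show Commute (⟨a * a, hm⟩ : ↥G₀) t' from Subtype.ext (hat.mul_left hat).eq)
      (fun k hk => Or.inl (mul_inv_eq_iff_eq_mul.2 (Subtype.ext ((hak k hk).mul_left (hak k hk)).eq))) with e | e
    exacts [Or.inl (congrArg Subtype.val e), Or.inr (congrArg Subtype.val e)]
  have hc2 : c * c = 1 := by
    have h1 := hsq h H c hc hct hck
    have h2' := hsq h2 H2 c' hc' hct' hck'
    have hec : Commute c' (e : X) := hck' e (hP2 heP)
    have hcc : c * c = c' * c' := by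
      rw [hce, hec.symm.mul_mul_mul_comm, ← Subgroup.coe_mul, hee, OneMemClass.coe_one, mul_one]
    rcases h1 with h1 | h1
    · exact h1
    · rcases h2' with h2' | h2'
      · rw [hcc, h2']
      · exfalso
        rw [hcc, h2'] at h1
        exact h.four_distinct.2.2.2.1 (Subtype.ext h1.symm)
  -- the choice
  obtain ⟨f, hf, hf2⟩ : ∃ f : ↥G₀, (f = 1 ∨ f = t) ∧ (e * f = 1 ∨ e * f = t2) := by
    rcases h.mem_four.1 heF with e1 | e1 | e1 | e1
    · exact ⟨1, Or.inl rfl, Or.inl (by rw [e1, mul_one])⟩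
    · exact ⟨t, Or.inr rfl, Or.inl (by rw [e1, h.sqT])⟩
    · exact ⟨1, Or.inl rfl, Or.inr (by rw [e1, mul_one])⟩
    · exact ⟨t, Or.inr rfl, Or.inr (by rw [e1, mul_assoc, h.sqT, mul_one])⟩
  have hfk : ∀ k ∈ X1, Commute f k := fun k hk => by
    rcases hf with rfl | rfl
    exacts [Commute.one_left k, (commute_of_mem_cent (H.le hk)).symm]
  have hef : ∀ k ∈ X2, Commute (e * f) k := fun k hk => by
    rcases hf2 with e1 | e1 <;> rw [e1]
    exacts [Commute.one_left k, (commute_of_mem_cent (H2.le hk)).symm]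
  refine ⟨c * f, fun hm => hc ?_, ?_, fun k hk => (hck k hk).mul_left (congrArg Subtype.val (hfk k hk).eq),
    fun k hk => ?_⟩
  · have := mul_mem hm (inv_mem f.2)
    rwa [mul_inv_cancel_right] at this
  · have hcf : Commute c (f : X) := by
      rcases hf with rfl | rfl
      · exact Commute.one_right c
      · exact hct
    rw [hcf.symm.mul_mul_mul_comm, hc2, one_mul, ← Subgroup.coe_mul]
    rcases hf with rfl | rfl
    · rw [mul_one, OneMemClass.coe_one]
    · rw [h.sqT, OneMemClass.coe_one]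
  · rw [hce, mul_assoc, ← Subgroup.coe_mul]
    exact (hck' k hk).mul_left (congrArg Subtype.val (hef k hk).eq)

end Cfsg.Lib.FischerLarge
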