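import Cfsg.Agent.Lib.FischerLarge.Fi22Part.OuterKernel

/-!
# An outer involution whose centraliser has a transposition with a cover of Fi22 as centraliser
-/

set_option autoImplicit false
set_option maxRecDepth 4000

namespace Cfsg.Lib.FischerLarge

open Cfsg Cfsg.Lib.SUSixU43 Cfsg.Lib.Extra

universe u

variable {X : Type u} [Group X] [Finite X] {G₀ : Subgroup X} {z : ↥G₀} {Q : Subgroup ↥G₀} {D : Coord z Q}
  (O : Over G₀ z Q) {g₀ s₀ : ↥G₀} {t t2 : ↥G₀}

include O in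
set_option maxHeartbeats 800000 in
/-- The data of a given outer involution centralising both halves. -/
theorem Coord.Duo.outer_data_of (h : D.Duo t t2) (hw : D.Wit g₀ s₀) (h2 : D.Duo t2 (t2 * t)) {X1 : Subgroup ↥G₀}
    {o : ↥G₀} (H : h.IsHalf X1 o) {X2 : Subgroup ↥G₀} {o2 : ↥G₀} (H2 : h2.IsHalf X2 o2) {d : X} (hd : d ∉ G₀)
    (hdk : ∀ k ∈ X1, Commute d (k : X)) (hdk' : ∀ k ∈ X2, Commute d (k : X)) :
      ∃ t' : ↥(G₀ ⊓ Subgroup.centralizer ({d} : Set X)), (t' : X) = (t : X) ∧ orderOf t' = 2 ∧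
        Cfsg.IsQuasisimple ↥(Subgroup.centralizer ({t'} : Set ↥(G₀ ⊓ Subgroup.centralizer ({d} : Set X)))) ∧
        (∃ g : ↥(G₀ ⊓ Subgroup.centralizer ({d} : Set X)),
          g * t' * g⁻¹ ∈ Subgroup.centralizer ({t'} : Set ↥(G₀ ⊓ Subgroup.centralizer ({d} : Set X))) ∧
            g * t' * g⁻¹ ≠ t') ∧
        ∃ (_ : ((Subgroup.zpowers t').subgroupOf
            (Subgroup.centralizer ({t'} : Set ↥(G₀ ⊓ Subgroup.centralizer ({d} : Set X))))).Normal),
          (∃ E : Set (↥(Subgroup.centralizer ({t'} : Set ↥(G₀ ⊓ Subgroup.centralizer ({d} : Set X)))) ⧸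
              (Subgroup.zpowers t').subgroupOf
                (Subgroup.centralizer ({t'} : Set ↥(G₀ ⊓ Subgroup.centralizer ({d} : Set X))))),
            Cfsg.IsThreeTranspositionClass E ∧ Cfsg.IsOfTypeM22 _ E) ∧
          ∃ d' : ↥(Subgroup.centralizer ({t'} : Set ↥(G₀ ⊓ Subgroup.centralizer ({d} : Set X)))) ⧸
              (Subgroup.zpowers t').subgroupOf
                (Subgroup.centralizer ({t'} : Set ↥(G₀ ⊓ Subgroup.centralizer ({d} : Set X)))),
            orderOf d' = 2 ∧ Cfsg.IsQuasisimple ↥(Subgroup.centralizer ({d'} : Set _)) ∧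
            (∃ (K : Type) (_ : Field K) (_ : Fintype K), Fintype.card K = 4 ∧
              ∃ _ : ((Subgroup.zpowers d').subgroupOf (Subgroup.centralizer ({d'} : Set _))).Normal,
                Nonempty (↥(Subgroup.centralizer ({d'} : Set _)) ⧸
                  (Subgroup.zpowers d').subgroupOf (Subgroup.centralizer ({d'} : Set _)) ≃* Cfsg.PSU 6 K 2)) ∧
            ∃ g, g * d' * g⁻¹ ∈ Subgroup.centralizer ({d'} : Set _) ∧ g * d' * g⁻¹ ≠ d' := by
  classical
  obtain ⟨Y, hY⟩ : ∃ Y, Y = G₀ ⊓ Subgroup.centralizer ({d} : Set X) := ⟨_, rfl⟩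
  rw [← hY]
  have hYm : ∀ {x : X}, x ∈ Y ↔ x ∈ G₀ ∧ Commute x d := by
    intro x
    rw [hY, Subgroup.mem_inf, Subgroup.mem_centralizer_singleton_iff]
    rfl
  obtain ⟨tY, htY⟩ : ∃ tY : ↥Y, (tY : X) = (t : X) :=
    ⟨⟨t, hYm.2 ⟨t.2, (hdk t (h.t_mem_half H)).symm⟩⟩, rfl⟩
  have htt : tY * tY = 1 := Subtype.ext (by
    push_cast
    rw [htY, ← Subgroup.coe_mul, h.sqT, OneMemClass.coe_one])
  have ht1 : tY ≠ 1 := fun e => h.ptT.2.2.1 (Subtype.ext (by rw [← htY, e, OneMemClass.coe_one, OneMemClass.coe_one]))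
  refine ⟨tY, htY, orderOf_eq_prime (by rw [pow_two, htt]) ht1, ?_⟩
  -- the isomorphism with the half
  have hmem : ∀ k : ↥X1, ((k : ↥G₀) : X) ∈ Y := fun k => hYm.2 ⟨(k : ↥G₀).2, (hdk k k.2).symm⟩
  have hcm : ∀ k : ↥X1, (⟨_, hmem k⟩ : ↥Y) ∈ Subgroup.centralizer ({tY} : Set ↥Y) := fun k =>
    mem_cent_of_commute (Subtype.ext (by
      show ((k : ↥G₀) : X) * tY = tY * ((k : ↥G₀) : X)
      rw [htY]
      exact congrArg Subtype.val (commute_of_mem_cent (H.le k.2)).eq))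
  let e : ↥X1 →* ↥(Subgroup.centralizer ({tY} : Set ↥Y)) :=
    MonoidHom.mk' (fun k => ⟨⟨_, hmem k⟩, hcm k⟩) fun a b => rfl
  have hev : ∀ k : ↥X1, (((e k : ↥(Subgroup.centralizer ({tY} : Set ↥Y))) : ↥Y) : X) = ((k : ↥G₀) : X) :=
    fun k => rfl
  have hes : Function.Surjective e := by
    intro w
    obtain ⟨hwG, hwd⟩ := hYm.1 ((w : ↥Y)).2
    obtain ⟨x, hx⟩ : ∃ x : ↥G₀, (x : X) = ((w : ↥Y) : X) := ⟨⟨_, hwG⟩, rfl⟩
    have hxt : Commute x t := Subtype.ext (by
      push_cast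
      rw [hx, ← htY]
      exact congrArg Subtype.val (commute_of_mem_cent w.2).eq)
    suffices hin : x ∈ X1 from ⟨⟨x, hin⟩, Subtype.ext (Subtype.ext ((hev ⟨x, hin⟩).trans hx))⟩
    by_contra hout
    refine O.not_cent_all D hw h hd fun y hy => ?_
    by_cases hy1 : y ∈ X1
    · exact hdk y hy1
    · have h1 := hdk _ (H.index y (mem_cent_of_commute hy) x (mem_cent_of_commute hxt) hy1 hout)
      have h3 : Commute d (x : X) := by rw [hx]; exact hwd.symm
      have := h1.mul_right h3.inv_right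
      rw [Subgroup.coe_mul, mul_inv_cancel_right] at this
      exact this
  have hei : Function.Injective e := fun a b hab =>
    Subtype.ext (Subtype.ext (((hev a).symm.trans (congrArg (fun w : ↥(Subgroup.centralizer ({tY} : Set ↥Y)) =>
      ((w : ↥Y) : X)) hab)).trans (hev b)))
  have hq : Cfsg.IsQuasisimple ↥(Subgroup.centralizer ({tY} : Set ↥Y)) :=
    Lib.Core.quasisimple_congr (h.half_quasisimple H hw) (MulEquiv.ofBijective e ⟨hei, hes⟩)
  refine ⟨hq, ?_, ?_⟩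
  · obtain ⟨g, hg, hg2⟩ := H2.moved
    have hgt2 : g * t2 * g⁻¹ = t2 := by
      rw [(commute_of_mem_cent (H2.le hg)).eq, mul_inv_cancel_right]
    have hprod : g * t * g⁻¹ = t2 * (g * (t2 * t) * g⁻¹) := by
      conv_rhs => rw [show g * (t2 * t) * g⁻¹ = g * t2 * g⁻¹ * (g * t * g⁻¹) by group, hgt2, ← mul_assoc, h.sq2,
        one_mul]
    have hzt2 : z * t2 = t2 * z := h.comm2z.eq.symm
    have hval : g * t * g⁻¹ = z * t ∨ g * t * g⁻¹ = z * (t * t2) := by
      rw [hprod]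
      rcases hg2 with e' | e' <;> rw [e']
      · left
        rw [← mul_assoc, ← hzt2, mul_assoc, ← mul_assoc t2, h.sq2, one_mul]
      · right
        rw [← mul_assoc, ← hzt2, mul_assoc, ← mul_assoc t2 (t2 * t), ← mul_assoc t2 t2, h.sq2, one_mul]
    have hcomm : Commute (g * t * g⁻¹) t := by
      rcases hval with e' | e' <;> rw [e']
      · exact h.commTz.symm.mul_left (Commute.refl t)
      · exact h.commTz.symm.mul_left ((Commute.refl t).mul_left h.comm.symm)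
    have hne : g * t * g⁻¹ ≠ t := by
      rcases hval with e' | e' <;> rw [e']
      · exact fun e' => D.ctx.ne_one (mul_eq_right.1 e')
      · intro e'
        have h5 := congrArg D.cl e'
        rw [D.cl_z_mul (mul_mem h.tQ h.t2Q), D.cl_mul t h.tQ t2 h.t2Q, h.cl2] at h5
        exact tau_om.2.2.2 ((smul_eq_zero.1 (add_eq_left.1 h5)).resolve_right h.v_ne)
    obtain ⟨gY, hgY⟩ : ∃ gY : ↥Y, (gY : X) = (g : X) := ⟨⟨g, hYm.2 ⟨g.2, (hdk' g hg).symm⟩⟩, rfl⟩
    have hv : ((gY * tY * gY⁻¹ : ↥Y) : X) = ((g * t * g⁻¹ : ↥G₀) : X) := by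
      push_cast
      rw [hgY, htY]
    refine ⟨gY, mem_cent_of_commute (Subtype.ext ?_), fun e' => hne (Subtype.ext ?_)⟩
    · show ((gY * tY * gY⁻¹ : ↥Y) : X) * tY = tY * ((gY * tY * gY⁻¹ : ↥Y) : X)
      rw [hv, htY]
      exact congrArg Subtype.val hcomm.eq
    · rw [← hv, e', htY]
  · have hpow : ∀ w : ↥Y, w ∈ Subgroup.zpowers tY ↔ w = 1 ∨ w = tY := fun w => by
      refine ⟨fun hw' => ?_, ?_⟩
      · obtain ⟨k, rfl⟩ := Subgroup.mem_zpowers_iff.1 hw'
        rcases Int.even_or_odd k with ⟨j, rfl⟩ | ⟨j, rfl⟩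
        · left; rw [← two_mul, zpow_mul, zpow_two, htt, one_zpow]
        · right; rw [zpow_add_one, zpow_mul, zpow_two, htt, one_zpow, one_mul]
      · rintro (rfl | rfl)
        exacts [one_mem _, Subgroup.mem_zpowers _]
    have hnorm : ((Subgroup.zpowers tY).subgroupOf (Subgroup.centralizer ({tY} : Set ↥Y))).Normal :=
      ⟨fun a ha g => by
        rw [Subgroup.mem_subgroupOf] at ha ⊢
        have hg : Commute (g : ↥Y) tY := commute_of_mem_cent g.2
        push_cast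
        rcases (hpow _).1 ha with e' | e' <;> rw [e']
        · exact (hpow _).2 (Or.inl (by group))
        · exact (hpow _).2 (Or.inr (by rw [hg.eq, mul_inv_cancel_right]))⟩
    obtain ⟨q, hq'⟩ : ∃ q, q =
        (QuotientGroup.mk' ((Subgroup.zpowers tY).subgroupOf (Subgroup.centralizer ({tY} : Set ↥Y)))).comp e :=
      ⟨_, rfl⟩
    have hqs : Function.Surjective q := by
      rw [hq']
      exact (QuotientGroup.mk'_surjective _).comp hes
    have hqk : ∀ a : ↥X1, q a = 1 ↔ (a : ↥G₀) = 1 ∨ (a : ↥G₀) = t := fun a => by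
      rw [hq', MonoidHom.comp_apply, QuotientGroup.mk'_apply, QuotientGroup.eq_one_iff, Subgroup.mem_subgroupOf,
        hpow, Subtype.ext_iff, Subtype.ext_iff, hev, htY, OneMemClass.coe_one, Subtype.ext_iff (a1 := (a : ↥G₀)),
        Subtype.ext_iff (a1 := (a : ↥G₀)), OneMemClass.coe_one]
    obtain ⟨hE, -⟩ := h.part_fi22_of H hw q hqs hqk
    obtain ⟨d', hd', hqd, ⟨hn', hiso⟩, hnwc⟩ := h.part_facts H hw q hqs hqk
    exact ⟨hnorm, hE, d', hd', hqd, ⟨R4, inferInstance, inferInstance, card_r4, hn', hiso⟩, hnwc⟩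

include O in
/-- The data of the outer involution. -/
theorem Coord.Duo.exists_outer_data (h : D.Duo t t2) (hw : D.Wit g₀ s₀) :
    ∃ d : X, orderOf d = 2 ∧ d ∉ G₀ ∧ Commute d (z : X) ∧
      ∃ t' : ↥(G₀ ⊓ Subgroup.centralizer ({d} : Set X)), (t' : X) = (t : X) ∧ orderOf t' = 2 ∧
        Cfsg.IsQuasisimple ↥(Subgroup.centralizer ({t'} : Set ↥(G₀ ⊓ Subgroup.centralizer ({d} : Set X)))) ∧
        (∃ g : ↥(G₀ ⊓ Subgroup.centralizer ({d} : Set X)),
          g * t' * g⁻¹ ∈ Subgroup.centralizer ({t'} : Set ↥(G₀ ⊓ Subgroup.centralizer ({d} : Set X))) ∧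
            g * t' * g⁻¹ ≠ t') ∧
        ∃ (_ : ((Subgroup.zpowers t').subgroupOf
            (Subgroup.centralizer ({t'} : Set ↥(G₀ ⊓ Subgroup.centralizer ({d} : Set X))))).Normal),
          (∃ E : Set (↥(Subgroup.centralizer ({t'} : Set ↥(G₀ ⊓ Subgroup.centralizer ({d} : Set X)))) ⧸
              (Subgroup.zpowers t').subgroupOf
                (Subgroup.centralizer ({t'} : Set ↥(G₀ ⊓ Subgroup.centralizer ({d} : Set X))))),
            Cfsg.IsThreeTranspositionClass E ∧ Cfsg.IsOfTypeM22 _ E) ∧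
          ∃ d' : ↥(Subgroup.centralizer ({t'} : Set ↥(G₀ ⊓ Subgroup.centralizer ({d} : Set X)))) ⧸
              (Subgroup.zpowers t').subgroupOf
                (Subgroup.centralizer ({t'} : Set ↥(G₀ ⊓ Subgroup.centralizer ({d} : Set X)))),
            orderOf d' = 2 ∧ Cfsg.IsQuasisimple ↥(Subgroup.centralizer ({d'} : Set _)) ∧
            (∃ (K : Type) (_ : Field K) (_ : Fintype K), Fintype.card K = 4 ∧
              ∃ _ : ((Subgroup.zpowers d').subgroupOf (Subgroup.centralizer ({d'} : Set _))).Normal,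
                Nonempty (↥(Subgroup.centralizer ({d'} : Set _)) ⧸
                  (Subgroup.zpowers d').subgroupOf (Subgroup.centralizer ({d'} : Set _)) ≃* Cfsg.PSU 6 K 2)) ∧
            ∃ g, g * d' * g⁻¹ ∈ Subgroup.centralizer ({d'} : Set _) ∧ g * d' * g⁻¹ ≠ d' := by
  have h2 : D.Duo t2 (t2 * t) := ⟨h.t2Q, mul_mem h.t2Q h.tQ, h.A2, by
    rw [h.cl_mul, h.cl2, smul_smul, ← pow_two, tau_om.2.1]⟩
  obtain ⟨X1, o, H⟩ := h.exists_isHalf hw
  obtain ⟨X2, o2, H2⟩ := h2.exists_isHalf hw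
  obtain ⟨d, hd, hdd, hdk, hdk'⟩ := h.exists_outer_invol O hw h2 H H2
  have hd1 : d ≠ 1 := fun e => hd (e ▸ one_mem _)
  have hzX : z ∈ X1 := H.pair_le (mem_pairCent.2 ⟨h.commTz.symm, h.comm2z.symm⟩)
  exact ⟨d, orderOf_eq_prime (by rw [pow_two, hdd]) hd1, hd, hdk z hzX, h.outer_data_of O hw h2 H H2 hd hdk hdk'⟩

end Cfsg.Lib.FischerLarge
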