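import Cfsg.Agent.Lib.FischerLarge.Fi22Part.Swap
import Cfsg.Agent.Lib.Fischer.FromCent.Main
import Cfsg.Agent.Lib.Sig.PComponent

/-!
# The subgroup of index two modulo the involution is Fi22
-/

set_option autoImplicit false
set_option maxRecDepth 4000

namespace Cfsg.Lib.FischerLarge

open Cfsg Cfsg.Lib.SUSixU43 Cfsg.Lib.Extra

universe u

variable {G : Type u} [Group G] [Finite G] {z : G} {Q : Subgroup G} (D : Coord z Q)

namespace Coord.Duo

variable {D} {t t2 : G} (h : D.Duo t t2)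
include h

/-- The subgroup of index two with an exchanging element outside. -/
structure IsHalf (_h : D.Duo t t2) (X1 : Subgroup G) (o : G) : Prop where
  le : X1 ≤ Subgroup.centralizer ({t} : Set G)
  conj : ∀ x ∈ Subgroup.centralizer ({t} : Set G), ∀ y ∈ X1, x * y * x⁻¹ ∈ X1
  index : ∀ a ∈ Subgroup.centralizer ({t} : Set G), ∀ b ∈ Subgroup.centralizer ({t} : Set G),
    a ∉ X1 → b ∉ X1 → a * b ∈ X1
  pair_le : pairCent t t2 ≤ X1
  o_mem : o ∈ Subgroup.centralizer ({t} : Set G)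
  o_out : o ∉ X1
  o_move : o * t2 * o⁻¹ = t2 * t
  keep_in : ∀ y ∈ X1, y * t2 * y⁻¹ = t2 ∨ y * t2 * y⁻¹ = t2 * t → y ∈ pairCent t t2
  moved : ∃ g ∈ X1, g * t2 * g⁻¹ = z * t2 ∨ g * t2 * g⁻¹ = z * (t2 * t)

/-- The subgroup exists. -/
theorem exists_isHalf {g₀ s₀ : G} (hw : D.Wit g₀ s₀) : ∃ X1 o, h.IsHalf X1 o := by
  obtain ⟨s, hs⟩ := D.exists_mate h.tQ h.vA
  obtain ⟨X1, hle, hconj, hidx, hpair, hsout⟩ := h.exists_half hs (h.cover hw).1.1
  obtain ⟨o, hoz, hot, ho⟩ := h.exists_exchange hw hs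
  have hsX : s ∈ Subgroup.centralizer ({t} : Set G) := mem_cent_of_commute (hs.commTS h.tQ).symm
  have hswap := fun {y : G} (hy : y ∈ X1) => h.swap_out hw hle hidx hsX hsout hpair hy
  have hoX := mem_cent_of_commute hot
  have hoo : o ∉ X1 := fun hh => hswap hh ho
  refine ⟨X1, o, hle, hconj, hidx, hpair, hoX, hoo, ho, fun y hy e => ?_,
    ⟨o * s, hidx o hoX s hsX hoo hsout, Or.inr ?_⟩⟩
  · exact mem_pairCent.2 ⟨commute_of_mem_cent (hle hy),
      mul_inv_eq_iff_eq_mul.1 (e.resolve_right (hswap hy))⟩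
  · rw [show o * s * t2 * (o * s)⁻¹ = o * (s * t2 * s⁻¹) * o⁻¹ by group, hs.moves h,
      show o * (z * t2) * o⁻¹ = o * z * o⁻¹ * (o * t2 * o⁻¹) by group, hoz.eq, mul_inv_cancel_right, ho]

variable {X1 : Subgroup G} {o : G}

/-- The involution over which the quotient is taken is central. -/
theorem t_mem_half (H : h.IsHalf X1 o) : t ∈ X1 := H.pair_le h.t_mem

theorem mem_zpowers_t {x : G} : x ∈ Subgroup.zpowers t ↔ x = 1 ∨ x = t := by
  refine ⟨fun hx => ?_, ?_⟩
  · obtain ⟨k, rfl⟩ := Subgroup.mem_zpowers_iff.1 hx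
    have h2 : t ^ (2 : ℤ) = 1 := by rw [zpow_two, h.sqT]
    rcases Int.even_or_odd k with ⟨j, rfl⟩ | ⟨j, rfl⟩
    · left; rw [← two_mul, zpow_mul, h2, one_zpow]
    · right; rw [zpow_add_one, zpow_mul, h2, one_zpow, one_mul]
  · rintro (rfl | rfl)
    exacts [one_mem _, Subgroup.mem_zpowers _]

theorem half_normal (H : h.IsHalf X1 o) : ((Subgroup.zpowers t).subgroupOf X1).Normal := by
  refine ⟨fun a ha g => ?_⟩
  rw [Subgroup.mem_subgroupOf] at ha ⊢
  have hc : Commute (g : G) t := commute_of_mem_cent (H.le g.2)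
  push_cast
  rcases (h.mem_zpowers_t).1 ha with e | e <;> rw [e]
  · exact (h.mem_zpowers_t).2 (Or.inl (by group))
  · exact (h.mem_zpowers_t).2 (Or.inr (by rw [hc.eq, mul_inv_cancel_right]))

theorem half_mk_eq (H : h.IsHalf X1 o) [((Subgroup.zpowers t).subgroupOf X1).Normal] {a b : ↥X1} :
    (QuotientGroup.mk a : ↥X1 ⧸ (Subgroup.zpowers t).subgroupOf X1) = QuotientGroup.mk b ↔
      (b : G) = a ∨ (b : G) = a * t := by
  rw [QuotientGroup.eq, Subgroup.mem_subgroupOf, h.mem_zpowers_t]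
  push_cast
  rw [inv_mul_eq_one, inv_mul_eq_iff_eq_mul]
  exact or_congr_left eq_comm

/-- The facts on the image of the second involution. -/
theorem part_facts (H : h.IsHalf X1 o) {g₀ s₀ : G} (hw : D.Wit g₀ s₀) {W : Type*} [Group W]
    (q : ↥X1 →* W) (hqs : Function.Surjective q) (hqk : ∀ a : ↥X1, q a = 1 ↔ (a : G) = 1 ∨ (a : G) = t) :
    ∃ d : W, orderOf d = 2 ∧
      Cfsg.IsQuasisimple ↥(Subgroup.centralizer ({d} : Set _)) ∧
      (∃ _ : ((Subgroup.zpowers d).subgroupOf (Subgroup.centralizer ({d} : Set _))).Normal,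
        Nonempty (↥(Subgroup.centralizer ({d} : Set _)) ⧸
          (Subgroup.zpowers d).subgroupOf (Subgroup.centralizer ({d} : Set _)) ≃* Cfsg.PSU 6 R4 2)) ∧
      ∃ g, g * d * g⁻¹ ∈ Subgroup.centralizer ({d} : Set _) ∧ g * d * g⁻¹ ≠ d := by
  obtain ⟨hq, hcen, ⟨ePSU⟩, hcard⟩ := h.cover hw
  haveI : Finite W := Finite.of_surjective q hqs
  have hqe : ∀ {a b : ↥X1}, q a = q b ↔ (b : G) = a ∨ (b : G) = a * t := fun {a b} => by
    have h1 := hqk (a⁻¹ * b)
    rw [map_mul, map_inv, inv_mul_eq_one] at h1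
    push_cast at h1
    rw [h1, inv_mul_eq_one, inv_mul_eq_iff_eq_mul]
    exact or_congr_left eq_comm
  obtain ⟨n2, -⟩ := And.intro (H.pair_le h.t2_mem) trivial
  obtain ⟨b, hb⟩ : ∃ b : ↥X1, b = ⟨t2, n2⟩ := ⟨_, rfl⟩
  have hbG : (b : G) = t2 := by rw [hb]
  obtain ⟨d, hd⟩ : ∃ d : W, d = q b := ⟨_, rfl⟩
  obtain ⟨dt, dt2, dt3, dne, dne', dne''⟩ := h.four_distinct
  have hd1 : d ≠ 1 := by
    rw [hd, ← map_one q, Ne, hqe]
    push_cast
    rw [hbG]
    rintro (e | e)
    · exact dt2 e.symm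
    · exact dt3 e.symm
  have hdd : d * d = 1 := by
    rw [hd, ← map_mul, show b * b = 1 from Subtype.ext (by push_cast; rw [hbG, h.sq2]),
      map_one]
  have hord : orderOf d = 2 := orderOf_eq_prime (by rw [pow_two, hdd]) hd1
  refine ⟨d, hord, ?_⟩
  have hdpow : ∀ w, w ∈ Subgroup.zpowers d ↔ w = 1 ∨ w = d := fun w => by
    refine ⟨fun hw' => ?_, ?_⟩
    · obtain ⟨k, rfl⟩ := Subgroup.mem_zpowers_iff.1 hw'
      rcases Int.even_or_odd k with ⟨j, rfl⟩ | ⟨j, rfl⟩
      · left; rw [← two_mul, zpow_mul, zpow_two, hdd, one_zpow]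
      · right; rw [zpow_add_one, zpow_mul, zpow_two, hdd, one_zpow, one_mul]
    · rintro (rfl | rfl)
      exacts [one_mem _, Subgroup.mem_zpowers _]
  -- the centraliser is the image of the pair
  obtain ⟨CD, hCD⟩ : ∃ CD, CD = Subgroup.centralizer ({d} : Set W) :=
    ⟨_, rfl⟩
  let φ : ↥(pairCent t t2) →* ↥CD :=
    (q.comp (Subgroup.inclusion H.pair_le)).codRestrict CD
      fun x => by
        rw [hCD, Subgroup.mem_centralizer_singleton_iff, hd]
        show q _ * _ = _ * q _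
        rw [← map_mul, ← map_mul]
        refine congrArg q (Subtype.ext ?_)
        push_cast
        rw [hbG]
        exact (mem_pairCent.1 x.2).2.eq
  have hφv : ∀ x : ↥(pairCent t t2), (φ x : W) =
      q (⟨x, H.pair_le x.2⟩ : ↥X1) := fun x => rfl
  have hφs : Function.Surjective φ := by
    rintro ⟨w, hw'⟩
    obtain ⟨y, rfl⟩ := hqs w
    rw [hCD, Subgroup.mem_centralizer_singleton_iff, hd, ← map_mul, ← map_mul,
      hqe] at hw'
    push_cast at hw'
    rw [hbG] at hw'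
    have hyt : Commute (y : G) t := commute_of_mem_cent (H.le y.2)
    have hk : (y : G) * t2 * (y : G)⁻¹ = t2 ∨ (y : G) * t2 * (y : G)⁻¹ = t2 * t := by
      rcases hw' with e | e
      · exact Or.inl (by rw [← e, mul_inv_cancel_right])
      · refine Or.inr (mul_inv_eq_iff_eq_mul.2 ?_)
        rw [mul_assoc t2, ← hyt.eq, ← mul_assoc, e, mul_assoc ((y : G) * t2) t t, h.sqT, mul_one]
    exact ⟨⟨y, H.keep_in _ y.2 hk⟩, rfl⟩
  have hkerφ : ∀ x : ↥(pairCent t t2), φ x = 1 ↔ (x : G) = 1 ∨ (x : G) = t := fun x => by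
    rw [Subtype.ext_iff, hφv, OneMemClass.coe_one, hqk]
  have hφne : φ.ker ≠ ⊤ := by
    intro e
    have h2 : (⟨t2, h.t2_mem⟩ : ↥(pairCent t t2)) ∈ φ.ker := e ▸ Subgroup.mem_top _
    rcases (hkerφ _).1 h2 with e' | e'
    exacts [dt2 e', dne e'.symm]
  have hqCD : Cfsg.IsQuasisimple ↥CD := Cfsg.Lib.Sig.isQuasisimple_of_surjective hq φ hφs hφne
  have hnorm : ((Subgroup.zpowers d).subgroupOf CD).Normal := ⟨fun a ha g => by
    rw [Subgroup.mem_subgroupOf] at ha ⊢
    have hg : (g : W) * d = d * g :=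
      Subgroup.mem_centralizer_singleton_iff.1 (hCD ▸ g.2)
    push_cast
    rcases (hdpow _).1 ha with e | e <;> rw [e]
    · exact (hdpow _).2 (Or.inl (by group))
    · exact (hdpow _).2 (Or.inr (by rw [hg, mul_inv_cancel_right]))⟩
  have hkerψ : ((QuotientGroup.mk' ((Subgroup.zpowers d).subgroupOf CD)).comp φ).ker =
      Subgroup.center ↥(pairCent t t2) := by
    ext x
    rw [hcen, MonoidHom.mem_ker, MonoidHom.comp_apply, QuotientGroup.mk'_apply, QuotientGroup.eq_one_iff,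
      Subgroup.mem_subgroupOf, hdpow, h.mem_four, hφv, hd, ← map_one q, hqe, hqe]
    push_cast
    rw [hbG]
    constructor
    · rintro ((e | e) | (e | e))
      · exact Or.inl e.symm
      · refine Or.inr (Or.inl ?_)
        calc (x : G) = (x : G) * t * t := by rw [mul_assoc, h.sqT, mul_one]
          _ = t := by rw [← e, one_mul]
      · exact Or.inr (Or.inr (Or.inl e.symm))
      · refine Or.inr (Or.inr (Or.inr ?_))
        calc (x : G) = (x : G) * t * t := by rw [mul_assoc, h.sqT, mul_one]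
          _ = t2 * t := by rw [← e]
    · rintro (e | e | e | e)
      · exact Or.inl (Or.inl e.symm)
      · exact Or.inl (Or.inr (by rw [e, h.sqT]))
      · exact Or.inr (Or.inl e.symm)
      · exact Or.inr (Or.inr (by rw [e, mul_assoc, h.sqT, mul_one]))
  subst hCD
  refine ⟨hqCD, ⟨hnorm, ⟨(((QuotientGroup.quotientMulEquivOfEq hkerψ.symm).trans
    (QuotientGroup.quotientKerEquivOfSurjective _ ((QuotientGroup.mk'_surjective _).comp hφs))).symm).trans ePSU⟩⟩, ?_⟩
  -- another conjugate in the centraliser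
  obtain ⟨g, hg, hg2⟩ := H.moved
  have hzp : z ∈ X1 := H.pair_le (mem_pairCent.2 ⟨h.commTz.symm, h.comm2z.symm⟩)
  refine ⟨q ⟨g, hg⟩, ?_, fun e => ?_⟩
  · rw [Subgroup.mem_centralizer_singleton_iff, hd, ← map_inv, ← map_mul,
      ← map_mul, ← map_mul, ← map_mul]
    refine congrArg q (Subtype.ext ?_)
    push_cast
    rw [hbG]
    rcases hg2 with e | e <;> rw [e]
    · exact (h.comm2z.symm.mul_left (Commute.refl t2)).eq
    · exact (h.comm2z.symm.mul_left ((Commute.refl t2).mul_left h.comm)).eq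
  · rw [hd, ← map_inv, ← map_mul, ← map_mul, hqe] at e
    push_cast at e
    rw [hbG] at e
    rcases hg2 with e2 | e2 <;> rw [e2] at e <;> rcases e with e | e
    · exact (h.z_out t2 (Or.inl rfl)).1 e.symm
    · refine (h.z_out t2 (Or.inl rfl)).2 ?_
      calc z * t2 = z * t2 * t * t := by rw [mul_assoc (z * t2), h.sqT, mul_one]
        _ = t2 * t := by rw [← e]
    · exact (h.z_out (t2 * t) (Or.inr rfl)).1 e.symm
    · refine (h.z_out (t2 * t) (Or.inr rfl)).2 ?_
      calc z * (t2 * t) = z * (t2 * t) * t * t := by rw [mul_assoc (z * (t2 * t)), h.sqT, mul_one]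
        _ = t2 * t := by rw [← e]

/-- The quotient is Fi22, with a class of type M(22). -/
theorem part_fi22_of (H : h.IsHalf X1 o) {g₀ s₀ : G} (hw : D.Wit g₀ s₀) {W : Type*} [Group W]
    (q : ↥X1 →* W) (hqs : Function.Surjective q) (hqk : ∀ a : ↥X1, q a = 1 ↔ (a : G) = 1 ∨ (a : G) = t) :
    (∃ E : Set W, Cfsg.IsThreeTranspositionClass E ∧ Cfsg.IsOfTypeM22 W E) ∧
      Nonempty (W ≃* Cfsg.Spor.Fi22) := by
  haveI : Finite W := Finite.of_surjective q hqs
  obtain ⟨d, hd, hq, ⟨hn, ⟨e⟩⟩, hnwc⟩ := h.part_facts H hw q hqs hqk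
  obtain ⟨h1, h2, h3⟩ := Fischer.FromCent.main d hd hq R4 card_r4 e hnwc
  exact ⟨⟨_, h1, h2⟩, h3⟩

theorem part_fi22 (H : h.IsHalf X1 o) {g₀ s₀ : G} (hw : D.Wit g₀ s₀)
    [((Subgroup.zpowers t).subgroupOf X1).Normal] :
    Nonempty (↥X1 ⧸ (Subgroup.zpowers t).subgroupOf X1 ≃* Cfsg.Spor.Fi22) :=
  (h.part_fi22_of H hw (QuotientGroup.mk' _) (QuotientGroup.mk'_surjective _) fun a => by
    rw [QuotientGroup.mk'_apply, QuotientGroup.eq_one_iff, Subgroup.mem_subgroupOf]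
    exact h.mem_zpowers_t).2

end Coord.Duo

end Cfsg.Lib.FischerLarge
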