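import Cfsg.Agent.Lib.FischerLarge.PointsCode

/-!
# The twenty-two points at a small involution in the normaliser of the abelian group
-/

set_option autoImplicit false
set_option maxRecDepth 4000

namespace Cfsg.Lib.FischerLarge

open Cfsg MulAction Cfsg.Lib.SUSixU43 Cfsg.Lib.Extra Cfsg.Lib.Concrete
open scoped Pointwise

universe u

theorem four_move {a b c d a' b' c' d' : GolayPt} (h : [a, b, c, d].Nodup) (h' : [a', b', c', d'].Nodup) :
    ∃ g : ↥Cfsg.M24, (g : Equiv.Perm GolayPt) a = a' ∧ (g : Equiv.Perm GolayPt) b = b' ∧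
      (g : Equiv.Perm GolayPt) c = c' ∧ (g : Equiv.Perm GolayPt) d = d' := by
  haveI := M24_five_transitive
  have h4 : MulAction.IsMultiplyPretransitive M24 GolayPt 4 :=
    MulAction.isMultiplyPretransitive_of_le (show 4 ≤ 5 by norm_num) (by simp [GolayPt])
  let e : Fin 4 ↪ GolayPt := ⟨fun i => [a, b, c, d].get i, h.injective_get⟩
  let e' : Fin 4 ↪ GolayPt := ⟨fun i => [a', b', c', d'].get i, h'.injective_get⟩
  obtain ⟨g, hg⟩ := (MulAction.isMultiplyPretransitive_iff (n := 4)).1 h4 e e'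
  have e0 := DFunLike.congr_fun hg 0
  have e1 := DFunLike.congr_fun hg 1
  have e2 := DFunLike.congr_fun hg 2
  have e3 := DFunLike.congr_fun hg 3
  exact ⟨g, e0, e1, e2, e3⟩

theorem perm_smul_pair (f : Equiv.Perm GolayPt) (a b : GolayPt) :
    f • ({a, b} : Set GolayPt) = {f a, f b} := by
  rw [← Set.image_smul, Set.image_pair]
  rfl

variable {G : Type u} [Group G] [Finite G] {z : G} {Q : Subgroup G} (D : Coord z Q)

/-- A subgroup with all squares of the stabiliser moves the neighbour pairs in one orbit of twenty-two. -/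
theorem Coord.orbit_twentytwo {g₀ s : G} (hw : D.Wit g₀ s) {t u : G} (ht : t ∈ D.Ts) (hu : u ∈ D.nbrs t)
    (H : Subgroup G) (hH : ∀ k ∈ D.nA, Commute k t → k * k ∈ H) (hHt : ∀ k ∈ H, Commute k t)
    (P : Subgroup G) (hP : P ≤ H ⊓ D.nA)
    (hPu : ∀ x ∈ P, x * u * x⁻¹ = u ∨ x * u * x⁻¹ = u * t) :
    22 * Nat.card ↥P ∣ Nat.card ↥H := by
  classical
  obtain ⟨F⟩ := exists_ptFacts D.c_lt
  obtain ⟨ψ, hsurj, -, hst⟩ := D.exists_mathieu hw ht
  obtain ⟨S0, hS0⟩ : ∃ S0 : Set GolayPt, S0 = {none, some 0} := ⟨_, rfl⟩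
  let f : ↥D.nA →* Equiv.Perm GolayPt := Cfsg.M24.subtype.comp ψ
  have hst' : ∀ n : ↥D.nA, (n : G) * t * (n : G)⁻¹ = t ↔ f n • S0 = S0 := fun n => by
    rw [hS0]
    exact hst n
  have hfix : ∀ n : ↥D.nA, Commute (n : G) t → f n • S0 = S0 := fun n hn =>
    (hst' n).1 (by rw [hn.eq, mul_inv_cancel_right])
  have key : ∀ n m : ↥D.nA, (n : G) * t * (n : G)⁻¹ = (m : G) * t * (m : G)⁻¹ ↔ f n • S0 = f m • S0 := by
    intro n m
    have h1 := hst' (m⁻¹ * n)
    rw [map_mul, map_inv, mul_smul, inv_smul_eq_iff] at h1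
    rw [← h1]
    push_cast
    constructor
    · intro e
      calc (m : G)⁻¹ * n * t * ((m : G)⁻¹ * n)⁻¹ = (m : G)⁻¹ * ((n : G) * t * (n : G)⁻¹) * m := by group
        _ = t := by rw [e]; group
    · intro e
      calc (n : G) * t * (n : G)⁻¹ = (m : G) * ((m : G)⁻¹ * n * t * ((m : G)⁻¹ * n)⁻¹) * (m : G)⁻¹ := by group
        _ = _ := by rw [e]
  have hlift : ∀ g : ↥Cfsg.M24, ∃ m : ↥D.nA, f m = (g : Equiv.Perm GolayPt) := fun g => by
    obtain ⟨m, hm⟩ := hsurj g
    exact ⟨m, congrArg Subtype.val hm⟩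
  have hlift0 : ∀ g : ↥Cfsg.M24, (g : Equiv.Perm GolayPt) none = none → (g : Equiv.Perm GolayPt) (some 0) = some 0 →
      ∃ m : ↥D.nA, f m = (g : Equiv.Perm GolayPt) ∧ (m : G) * t * (m : G)⁻¹ = t := fun g h1 h2 => by
    obtain ⟨m, hm⟩ := hlift g
    exact ⟨m, hm, (hst' m).2 (by rw [hS0, hm, perm_smul_pair, h1, h2])⟩
  have hconj : ∀ m : ↥D.nA, (m : G) * t * (m : G)⁻¹ = t → ∀ d ∈ D.nbrs t, (m : G) * d * (m : G)⁻¹ ∈ D.nbrs t := by
    intro m hm d hd
    refine ⟨D.nA_Ts m.2 hd.1, ?_⟩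
    have h1 := D.nA_Ts m.2 hd.2
    rw [show (m : G) * (t * d) * (m : G)⁻¹ = (m : G) * t * (m : G)⁻¹ * ((m : G) * d * (m : G)⁻¹) by group, hm] at h1
    exact h1
  have hnot : ∀ d ∈ D.nbrs t, d ≠ t := fun d hd e =>
    hd.2.2.1 (by rw [e]; exact D.lagC_elem t ht.1)
  have ne0 : (none : GolayPt) ≠ some 0 := by simp
  -- neighbours share a point
  have hext : ∀ d ∈ D.nbrs t, ∃ (n : ↥D.nA) (a x : GolayPt), (n : G) * t * (n : G)⁻¹ = d ∧ a ∈ S0 ∧ x ∉ S0 ∧
      f n • S0 = {a, x} := by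
    intro d hd
    obtain ⟨n₀, hn₀, rfl⟩ := D.Ts_trans F hw ht hd.1
    obtain ⟨n, hn⟩ : ∃ n : ↥D.nA, n = ⟨n₀, hn₀⟩ := ⟨_, rfl⟩
    obtain rfl : n₀ = (n : G) := by rw [hn]
    refine ⟨n, ?_⟩
    obtain ⟨x, y, hxy, he⟩ : ∃ x y, x ≠ y ∧ f n • S0 = {x, y} :=
      ⟨_, _, (f n).injective.ne ne0, by rw [hS0, perm_smul_pair]⟩
    by_cases hx : x ∈ S0
    · by_cases hy : y ∈ S0
      · exfalso
        refine hnot _ hd ((hst' n).2 ?_)
        rw [he]
        rw [hS0] at hx hy ⊢
        rcases hx with rfl | rfl <;> rcases hy with rfl | rfl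
        exacts [absurd rfl hxy, rfl, Set.pair_comm _ _, absurd rfl hxy]
      · exact ⟨x, y, rfl, hx, hy, he⟩
    · by_cases hy : y ∈ S0
      · exact ⟨y, x, rfl, hy, hx, he.trans (Set.pair_comm _ _)⟩
      · exfalso
        obtain ⟨T, hT⟩ : ∃ T : Finset GolayPt, T = Finset.univ \ {none, some 0} := ⟨_, rfl⟩
        have hTc : T.card = 22 := by
          rw [hT, Finset.card_univ_sdiff]
          simp [GolayPt]
        have hbig : (T.powersetCard 2).card ≤ (D.nbrs t).ncard := by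
          have hmem : ∀ S ∈ T.powersetCard 2, ∃ m : ↥D.nA, (m : G) * t * (m : G)⁻¹ ∈ D.nbrs t ∧
              f m • S0 = (S : Set GolayPt) := by
            intro S hS
            obtain ⟨hST, hS2⟩ := Finset.mem_powersetCard.1 hS
            obtain ⟨x', y', hxy', rfl⟩ := Finset.card_eq_two.1 hS2
            have hx' := hST (Finset.mem_insert_self x' _)
            have hy' := hST (Finset.mem_insert_of_mem (Finset.mem_singleton_self y'))
            simp only [hT, Finset.mem_sdiff, Finset.mem_univ, true_and, Finset.mem_insert, Finset.mem_singleton,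
              not_or] at hx' hy'
            rw [hS0] at hx hy
            simp only [Set.mem_insert_iff, Set.mem_singleton_iff, not_or] at hx hy
            obtain ⟨g, g1, g2, g3, g4⟩ := four_move (a := none) (b := some 0) (c := x) (d := y) (a' := none)
              (b' := some 0) (c' := x') (d' := y') (by simp [ne0, hxy, Ne.symm hx.1, Ne.symm hx.2, Ne.symm hy.1, Ne.symm hy.2])
              (by simp [ne0, hxy', Ne.symm hx'.1, Ne.symm hx'.2, Ne.symm hy'.1, Ne.symm hy'.2])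
            obtain ⟨m, hm, hmt⟩ := hlift0 g g1 g2
            refine ⟨m * n, ?_, ?_⟩
            · have := hconj m hmt _ hd
              rwa [show ((m * n : ↥D.nA) : G) * t * ((m * n : ↥D.nA) : G)⁻¹ =
                (m : G) * ((n : G) * t * (n : G)⁻¹) * (m : G)⁻¹ by push_cast; group]
            · rw [map_mul, mul_smul, he, hm, perm_smul_pair, g3, g4]
              simp
          choose! m hm1 hm2 using hmem
          rw [← Set.ncard_coe_finset]
          refine Set.ncard_le_ncard_of_injOn (fun S => (m S : G) * t * (m S : G)⁻¹) (fun S hS => hm1 S hS)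
            (fun S hS S' hS' e => ?_) (Set.toFinite _)
          have := (key _ _).1 e
          rw [hm2 S hS, hm2 S' hS'] at this
          exact Finset.coe_injective this
        rw [Finset.card_powersetCard, hTc, D.card_nbrs F hw ht] at hbig
        exact absurd hbig (by decide)
  -- the point outside is unique
  have huniq : ∀ (n n' : ↥D.nA) (a x a' x' : GolayPt), (n : G) * t * (n : G)⁻¹ = (n' : G) * t * (n' : G)⁻¹ →
      a ∈ S0 → x ∉ S0 → a' ∈ S0 → x' ∉ S0 → f n • S0 = {a, x} → f n' • S0 = {a', x'} → x = x' := by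
    intro n n' a x a' x' e ha hx ha' hx' he he'
    have h1 := (key n n').1 e
    rw [he, he'] at h1
    rcases Set.pair_eq_pair_iff.1 h1 with ⟨-, h⟩ | ⟨-, h⟩
    · exact h
    · exact absurd (h ▸ ha') hx
  have hut : u * t ∈ D.nbrs t := by
    have e : t * u = u * t := (D.lag_comm ht.1 hu.1.1).eq
    refine ⟨e ▸ hu.2, ?_⟩
    rw [← e, ← mul_assoc, D.lagC_elem t ht.1, one_mul]
    exact hu.1
  obtain ⟨n, a, x, hn, ha, hx, he⟩ := hext u hu
  obtain ⟨n', a', x', hn', ha', hx', he'⟩ := hext _ hut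
  have hxne : x ≠ none ∧ x ≠ some 0 := by
    rw [hS0] at hx
    simpa [Set.mem_insert_iff, not_or] using hx
  have hx'ne : x' ≠ none ∧ x' ≠ some 0 := by
    rw [hS0] at hx'
    simpa [Set.mem_insert_iff, not_or] using hx'
  have hxx : x' = x := by
    by_contra hne
    obtain ⟨y, hy⟩ : ∃ y : GolayPt, y ∉ ({none, some 0, x, x'} : Finset GolayPt) := by
      by_contra hno
      push Not at hno
      have h1 := Finset.card_le_card (show Finset.univ ⊆ ({none, some 0, x, x'} : Finset GolayPt) from fun w _ => hno w)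
      have h2 := Finset.card_le_four (a := (none : GolayPt)) (b := some 0) (c := x) (d := x')
      simp [GolayPt] at h1 h2
      omega
    simp only [Finset.mem_insert, Finset.mem_singleton, not_or] at hy
    obtain ⟨g, g1, g2, g3, g4⟩ := four_move (a := none) (b := some 0) (c := x) (d := x') (a' := none)
      (b' := some 0) (c' := x) (d' := y) (by simp [ne0, Ne.symm hxne.1, Ne.symm hxne.2, Ne.symm hx'ne.1, Ne.symm hx'ne.2, Ne.symm hne])
      (by simp [ne0, Ne.symm hxne.1, Ne.symm hxne.2, Ne.symm hy.1, Ne.symm hy.2.1, Ne.symm hy.2.2.1])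
    obtain ⟨m, hm, hmt⟩ := hlift0 g g1 g2
    have hga : ∀ b ∈ S0, (g : Equiv.Perm GolayPt) b = b := by
      rw [hS0]
      rintro b (rfl | rfl)
      exacts [g1, g2]
    have hmu : (m : G) * u * (m : G)⁻¹ = u := by
      rw [← hn]
      refine Eq.trans ?_ ((key (m * n) n).2 ?_)
      · push_cast; group
      · rw [map_mul, mul_smul, he, hm, perm_smul_pair, hga a ha, g3]
    have hmut : ((m * n' : ↥D.nA) : G) * t * ((m * n' : ↥D.nA) : G)⁻¹ = (n' : G) * t * (n' : G)⁻¹ := by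
      rw [hn']
      calc ((m * n' : ↥D.nA) : G) * t * ((m * n' : ↥D.nA) : G)⁻¹ =
          (m : G) * ((n' : G) * t * (n' : G)⁻¹) * (m : G)⁻¹ := by push_cast; group
        _ = (m : G) * u * (m : G)⁻¹ * ((m : G) * t * (m : G)⁻¹) := by rw [hn']; group
        _ = u * t := by rw [hmu, hmt]
    exact hy.2.2.2 (huniq (m * n') n' a' y a' x' hmut ha'
      (by rw [hS0]; simp [hy.1, hy.2.1]) ha' hx'
      (by rw [map_mul, mul_smul, he', hm, perm_smul_pair, hga a' ha', g4]) he')
  subst hxx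
  -- the orbit
  obtain ⟨H', hH'⟩ : ∃ H', H' = H ⊓ D.nA := ⟨_, rfl⟩
  have hH'le : H' ≤ D.nA := hH' ▸ inf_le_right
  letI : MulAction ↥H' GolayPt := MulAction.compHom GolayPt (f.comp (Subgroup.inclusion hH'le))
  have hsmul : ∀ (k : ↥H') (y : GolayPt), k • y = f ⟨k, hH'le k.2⟩ y := fun k y => rfl
  have hkt : ∀ k : ↥H', f ⟨k, hH'le k.2⟩ • S0 = S0 := fun k =>
    hfix _ (hHt k (hH' ▸ k.2 : (k : G) ∈ H ⊓ D.nA).1)
  have hout : ∀ (k : ↥H') (y : GolayPt), y ∉ S0 → k • y ∉ S0 := fun k y hy h => by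
    rw [hsmul, ← hkt k] at h
    obtain ⟨y', hy', e⟩ := h
    exact hy ((f ⟨k, hH'le k.2⟩).injective e ▸ hy')
  have horb : MulAction.orbit ↥H' x' = S0ᶜ := by
    refine Set.Subset.antisymm ?_ fun w hw => ?_
    · rintro _ ⟨k, rfl⟩
      exact hout k x' hx
    · by_cases hwx : w = x'
      · exact hwx ▸ MulAction.mem_orbit_self _
      have hwne : w ≠ none ∧ w ≠ some 0 := by
        rw [hS0] at hw
        simpa [Set.mem_insert_iff, not_or] using hw
      obtain ⟨y, hy⟩ : ∃ y : GolayPt, y ∉ ({none, some 0, x', w} : Finset GolayPt) := by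
        by_contra hno
        push Not at hno
        have h1 := Finset.card_le_card (show Finset.univ ⊆ ({none, some 0, x', w} : Finset GolayPt) from fun w _ => hno w)
        have h2 := Finset.card_le_four (a := (none : GolayPt)) (b := some 0) (c := x') (d := w)
        simp [GolayPt] at h1 h2
        omega
      simp only [Finset.mem_insert, Finset.mem_singleton, not_or] at hy
      obtain ⟨g, g1, g2, g3, g4⟩ := four_move (a := none) (b := some 0) (c := x') (d := y) (a' := none)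
        (b' := some 0) (c' := y) (d' := w) (by simp [ne0, Ne.symm hxne.1, Ne.symm hxne.2, Ne.symm hy.1, Ne.symm hy.2.1, Ne.symm hy.2.2.1])
        (by simp [ne0, Ne.symm hwne.1, Ne.symm hwne.2, Ne.symm hy.1, Ne.symm hy.2.1, hy.2.2.2])
      obtain ⟨m, hm, hmt⟩ := hlift0 g g1 g2
      have hmm : (m : G) * m ∈ H' := hH' ▸ ⟨hH m m.2 (mul_inv_eq_iff_eq_mul.1 hmt), mul_mem m.2 m.2⟩
      refine ⟨⟨_, hmm⟩, ?_⟩
      show (⟨_, hmm⟩ : ↥H') • x' = w
      rw [hsmul, show (⟨(m : G) * m, hH'le hmm⟩ : ↥D.nA) = m * m from rfl, map_mul, hm]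
      show (g : Equiv.Perm GolayPt) ((g : Equiv.Perm GolayPt) x') = w
      rw [g3, g4]
  have hcard : (S0ᶜ : Set GolayPt).ncard = 22 := by
    rw [Set.ncard_compl, hS0, Set.ncard_pair ne0]
    simp [GolayPt]
  have hPstab : P.subgroupOf H' ≤ MulAction.stabilizer ↥H' x' := by
    intro k hk
    have hk' : (k : G) ∈ P := hk
    rw [MulAction.mem_stabilizer_iff, hsmul]
    obtain ⟨kn, hkn⟩ : ∃ kn : ↥D.nA, kn = ⟨k, hH'le k.2⟩ := ⟨_, rfl⟩
    rw [← hkn]
    have hS := hkt k
    rw [← hkn] at hS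
    have hb : ∀ b ∈ S0, f kn b ∈ S0 := fun b hb => hS ▸ ⟨b, hb, rfl⟩
    have hbx : f kn x' ∉ S0 := by
      rw [hkn, ← hsmul]
      exact hout k x' hx
    rcases hPu k hk' with e | e
    · refine huniq (kn * n) n (f kn a) _ a x' ?_ (hb a ha) hbx ha hx ?_ he
      · rw [hn]
        calc ((kn * n : ↥D.nA) : G) * t * ((kn * n : ↥D.nA) : G)⁻¹ = (kn : G) * ((n : G) * t * (n : G)⁻¹) * (kn : G)⁻¹ := by
              push_cast; group
          _ = u := by rw [hn, hkn]; exact e
      · rw [map_mul, mul_smul, he, perm_smul_pair]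
    · refine huniq (kn * n) n' (f kn a) _ a' x' ?_ (hb a ha) hbx ha' hx' ?_ he'
      · rw [hn']
        calc ((kn * n : ↥D.nA) : G) * t * ((kn * n : ↥D.nA) : G)⁻¹ = (kn : G) * ((n : G) * t * (n : G)⁻¹) * (kn : G)⁻¹ := by
              push_cast; group
          _ = u * t := by rw [hn, hkn]; exact e
      · rw [map_mul, mul_smul, he, perm_smul_pair]
  have h1 := Nat.card_congr (MulAction.orbitProdStabilizerEquivGroup ↥H' x')
  rw [Nat.card_prod, Nat.card_coe_set_eq, horb, hcard] at h1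
  refine Dvd.dvd.trans ?_ (Subgroup.card_dvd_of_le (hH' ▸ inf_le_left : H' ≤ H))
  rw [← h1, ← Nat.card_congr (Subgroup.subgroupOfEquivOfLe (hH' ▸ hP : P ≤ H')).toEquiv]
  exact Nat.mul_dvd_mul_left _ (Subgroup.card_dvd_of_le hPstab)

end Cfsg.Lib.FischerLarge
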