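import Cfsg.Agent.Lib.FischerLarge.Fi22Part.Local
import Cfsg.Agent.Lib.FischerLarge.Stab

/-!
# The two-part of the centraliser of a small involution
-/

set_option autoImplicit false
set_option maxRecDepth 4000

namespace Cfsg.Lib.FischerLarge

open Cfsg Cfsg.Lib.SUSixU43 Cfsg.Lib.Extra

universe u

variable {G : Type u} [Group G] [Finite G] {z : G} {Q : Subgroup G} (D : Coord z Q)

theorem Coord.card_Sb_small {v : V6} (hv : v ∈ D.A) : Nat.card ↥(Sb D.c v) = 25920 := by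
  have h := card_inf_stab (KM D.c) hv D.orb.invA fun y hy => D.orb.transA v hv y hy
  rw [D.orb.cardA, D.card_model] at h
  rw [Sb]
  omega

namespace Coord.Duo

variable {D} {t t2 : G} (h : D.Duo t t2)
include h

theorem card_Y :
    Nat.card ↥(Subgroup.centralizer ({z} : Set G) ⊓ Subgroup.centralizer ({t} : Set G)) = 2 ^ 19 * 405 := by
  rw [D.card_stab h.ptT, D.card_Sb_small h.vA]
  norm_num

theorem not_dvd_Y :
    ¬ 2 ^ 20 ∣ Nat.card ↥(Subgroup.centralizer ({z} : Set G) ⊓ Subgroup.centralizer ({t} : Set G)) := by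
  rw [h.card_Y]
  norm_num

/-- The centraliser has the two-part of its intersection with the centraliser of the central involution. -/
theorem not_dvd_cent {g₀ s₀ : G} (hw : D.Wit g₀ s₀) :
    ¬ 2 ^ 20 ∣ Nat.card ↥(Subgroup.centralizer ({t} : Set G)) := by
  intro h20
  have := Fact.mk Nat.prime_two
  obtain ⟨Y, hY⟩ : ∃ Y, Y = Subgroup.centralizer ({z} : Set G) ⊓ Subgroup.centralizer ({t} : Set G) := ⟨_, rfl⟩
  have hYm : ∀ {x : G}, x ∈ Y ↔ Commute x z ∧ Commute x t := by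
    intro x
    rw [hY, Subgroup.mem_inf, Subgroup.mem_centralizer_singleton_iff, Subgroup.mem_centralizer_singleton_iff]
    rfl
  have hYc : Nat.card ↥Y = 2 ^ 19 * 405 := by rw [hY]; exact h.card_Y
  set Qt := Q ⊓ Subgroup.centralizer ({t} : Set G) with hQt
  have hQtc : Nat.card ↥Qt = 2 ^ 12 := by
    have := D.card_centQ h.ptT
    rw [← hQt] at this
    omega
  have hQtY : Qt ≤ Y := fun x hx => hYm.2 ⟨(D.ctx.central x hx.1).symm, commute_of_mem_cent hx.2⟩
  obtain ⟨P', hP'c, hP'Q⟩ := Sylow.exists_subgroup_card_pow_prime_le (G := ↥Y) (p := 2) (n := 12) (m := 19)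
    (by rw [hYc]; exact dvd_mul_right _ _) (Qt.subgroupOf Y)
    (by rw [Nat.card_congr (Subgroup.subgroupOfEquivOfLe hQtY).toEquiv, hQtc]) (by norm_num)
  set P := P'.map Y.subtype with hP
  have hPY : P ≤ Y := Subgroup.map_subtype_le _
  have hQP : Qt ≤ P := fun x hx => ⟨⟨x, hQtY hx⟩, hP'Q (show (⟨x, hQtY hx⟩ : ↥Y) ∈ Qt.subgroupOf Y from hx), rfl⟩
  have hPc : Nat.card ↥P = 2 ^ 19 := by
    rw [hP, Subgroup.card_map_of_injective Y.subtype_injective, hP'c]
  have hPX : P ≤ Subgroup.centralizer ({t} : Set G) := fun x hx => mem_cent_of_commute (hYm.1 (hPY hx)).2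
  obtain ⟨K', hK'c, hK'P⟩ := Sylow.exists_subgroup_card_pow_succ (G := ↥(Subgroup.centralizer ({t} : Set G)))
    (p := 2) (n := 19) h20 (H := P.subgroupOf _)
    (by rw [Nat.card_congr (Subgroup.subgroupOfEquivOfLe hPX).toEquiv, hPc])
  set K := K'.map (Subgroup.centralizer ({t} : Set G)).subtype with hK
  have hKc : Nat.card ↥K = 2 ^ 20 := by
    rw [hK, Subgroup.card_map_of_injective (Subgroup.centralizer ({t} : Set G)).subtype_injective, hK'c]
  have hKX : K ≤ Subgroup.centralizer ({t} : Set G) := Subgroup.map_subtype_le _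
  have hPK : P ≤ K := fun x hx =>
    ⟨⟨x, hPX hx⟩, hK'P (show (⟨x, hPX hx⟩ : ↥(Subgroup.centralizer ({t} : Set G))) ∈ P.subgroupOf _ from hx), rfl⟩
  have hidx : (P.subgroupOf K).index = 2 := by
    have h1 := (P.subgroupOf K).card_mul_index
    rw [Nat.card_congr (Subgroup.subgroupOfEquivOfLe hPK).toEquiv, hPc, hKc] at h1
    omega
  have hnorm := Subgroup.normal_of_index_eq_two hidx
  have hzP : z ∈ P := hQP ⟨D.ctx.mem, mem_cent_of_commute h.commTz.symm⟩
  have hKY : K ≤ Y := by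
    intro k hk
    refine hYm.2 ⟨?_, commute_of_mem_cent (hKX hk)⟩
    obtain ⟨u, hu⟩ : ∃ u, u = k * z * k⁻¹ := ⟨_, rfl⟩
    have huP : ∀ x ∈ P, Commute u x := fun x hx => by
      have h1 : k⁻¹ * x * k⁻¹⁻¹ ∈ P :=
        hnorm.conj_mem (⟨x, hPK hx⟩ : ↥K) hx (⟨k⁻¹, inv_mem hk⟩ : ↥K)
      have h2 : Commute z (k⁻¹ * x * k⁻¹⁻¹) := (hYm.1 (hPY h1)).1.symm
      have h3 := (Commute.conj_iff k).2 h2
      rwa [← hu, show k * (k⁻¹ * x * k⁻¹⁻¹) * k⁻¹ = x by group] at h3
    obtain ⟨huQ, a, ha⟩ := h.rigid_line hw (huP z hzP)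
      (huP t (hQP ⟨h.tQ, mem_cent_of_commute (Commute.refl t)⟩)) fun x hx hxt _ =>
        Or.inl (mul_inv_eq_iff_eq_mul.2 (huP x (hQP ⟨hx, mem_cent_of_commute hxt.symm⟩)).eq)
    have hconj : IsConj z u := isConj_iff.2 ⟨k, hu.symm⟩
    by_cases ha0 : a = 0
    · rw [ha0, zero_smul] at ha
      rcases (D.cl_eq 1 (one_mem _) u huQ).1 (by rw [D.cl_one, ha]) with e | e
      · exact absurd (isConj_one_left.1 (e ▸ hconj)) D.ctx.ne_one
      · rw [mul_one] at e
        exact mul_inv_eq_iff_eq_mul.1 (hu.symm.trans e)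
    · exact absurd hconj (D.not_conj_A huQ (ha ▸ D.smul_A h.vA ha0))
  have h1 := Subgroup.card_dvd_of_le hKY
  rw [hKc, hY] at h1
  exact h.not_dvd_Y h1

end Coord.Duo

end Cfsg.Lib.FischerLarge
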