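import Cfsg.Agent.Lib.FischerLarge.Fi22Part.Cover
import Cfsg.Agent.Lib.FischerLarge.Fi22Part.Sylow
import Cfsg.Agent.Lib.FischerLarge.Fi22Part.Points
import Cfsg.Agent.Lib.FischerLarge.FusionMain

/-!
# The exchanging elements lie outside the subgroup of index two
-/

set_option autoImplicit false
set_option maxRecDepth 4000

namespace Cfsg.Lib.FischerLarge

open Cfsg Cfsg.Lib.SUSixU43 Cfsg.Lib.Extra
open scoped Pointwise

universe u

variable {G : Type u} [Group G] [Finite G] {z : G} {Q : Subgroup G} (D : Coord z Q)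

/-- A two-group containing the abelian group normalises it. -/
theorem Coord.two_le_nA {g₀ : G} (hs₀ : g₀ * z * g₀⁻¹ ∈ Q) (hne₀ : g₀ * z * g₀⁻¹ ≠ z) {P : Subgroup G}
    (hP : IsPGroup 2 ↥P) (hA : D.lagC ≤ P) : P ≤ D.nA := by
  haveI : Fact (Nat.Prime 2) := ⟨Nat.prime_two⟩
  obtain ⟨T, -, -, hwc⟩ := D.exists_sylow_thompson hs₀ hne₀
  obtain ⟨T', hT'⟩ := hP.exists_le_sylow
  obtain ⟨g, rfl⟩ := MulAction.exists_smul_eq G T T'
  intro x hx
  have hmem : ∀ y ∈ P, g⁻¹ * y * g ∈ (T : Subgroup G) := fun y hy => by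
    have h1 : y ∈ (g • T : Sylow 2 G) := hT' hy
    rw [Sylow.smul_def] at h1
    obtain ⟨w, hw, rfl⟩ := h1
    show g⁻¹ * (g * w * g⁻¹) * g ∈ (T : Subgroup G)
    rw [show g⁻¹ * (g * w * g⁻¹) * g = w by group]
    exact hw
  refine D.nA_of_conj fun a ha => ?_
  have hg := hwc g⁻¹ (by
    rintro _ ⟨a, ha, rfl⟩
    show g⁻¹ * a * g⁻¹⁻¹ ∈ (T : Subgroup G)
    rw [inv_inv]
    exact hmem a (hA ha))
  have hxg := hwc (g⁻¹ * x) (by
    rintro _ ⟨a, ha, rfl⟩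
    show g⁻¹ * x * a * (g⁻¹ * x)⁻¹ ∈ (T : Subgroup G)
    rw [show g⁻¹ * x * a * (g⁻¹ * x)⁻¹ = g⁻¹ * (x * a * x⁻¹) * g by group]
    exact hmem _ (mul_mem (mul_mem hx (hA ha)) (inv_mem hx)))
  have h1 : g⁻¹ * x * a * (g⁻¹ * x)⁻¹ ∈ D.lagC := hxg ▸ ⟨a, ha, rfl⟩
  rw [← hg] at h1
  obtain ⟨b, hb, e⟩ := h1
  have e' : g⁻¹ * b * g⁻¹⁻¹ = g⁻¹ * x * a * (g⁻¹ * x)⁻¹ := e
  rwa [show x * a * x⁻¹ = g * (g⁻¹ * x * a * (g⁻¹ * x)⁻¹) * g⁻¹ by group, ← e',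
    show g * (g⁻¹ * b * g⁻¹⁻¹) * g⁻¹ = b by group]

namespace Coord.Duo

variable {D} {t t2 : G} (h : D.Duo t t2)
include h

/-- Moving the pair into the abelian group. -/
theorem exists_frame : ∃ m : G, Commute m z ∧ m⁻¹ * t * m ∈ D.lagW ∧ m⁻¹ * t2 * m ∈ D.lagW := by
  obtain ⟨F⟩ := exists_ptFacts D.c_lt
  obtain ⟨g, hg, hgv⟩ := D.orb.transA _ (D.line_mem_A F 0) _ h.vA
  obtain ⟨m, rfl⟩ := D.exists_pre hg
  have hmz := D.m_comm m
  refine ⟨(m : G), hmz, ?_, ?_⟩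
  · have hQ : (m : G)⁻¹ * t * m ∈ Q := by simpa using conj_mem D.ctx hmz.inv_left h.tQ
    refine D.mem_lagW.2 ⟨hQ, ?_⟩
    have e := D.π_cl m _ hQ
    rw [show (m : G) * ((m : G)⁻¹ * t * m) * (m : G)⁻¹ = t by group, ← hgv] at e
    rw [← smul_left_cancel (D.π m) e]
    exact F.L_fix 0
  · have hQ : (m : G)⁻¹ * t2 * m ∈ Q := by simpa using conj_mem D.ctx hmz.inv_left h.t2Q
    refine D.mem_lagW.2 ⟨hQ, ?_⟩
    have e := D.π_cl m _ hQ
    rw [show (m : G) * ((m : G)⁻¹ * t2 * m) * (m : G)⁻¹ = t2 by group, h.cl2, ← hgv, ← g6_scalar] at e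
    rw [← smul_left_cancel (D.π m) e]
    exact (lagFacts D.c_lt).scal _ _ (F.L_fix 0)

theorem not_conj_three : ¬ IsConj z t ∧ ¬ IsConj z t2 ∧ ¬ IsConj z (t2 * t) :=
  ⟨D.not_conj_A h.tQ h.vA, D.not_conj_A h.t2Q h.A2, D.not_conj_A (mul_mem h.t2Q h.tQ) h.A3⟩

set_option maxHeartbeats 800000 in
/-- An exchanging element is outside. -/
theorem swap_out {g₀ s₀ : G} (hw : D.Wit g₀ s₀) {X1 : Subgroup G}
    (hle : X1 ≤ Subgroup.centralizer ({t} : Set G))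
    (hidx : ∀ a ∈ Subgroup.centralizer ({t} : Set G), ∀ b ∈ Subgroup.centralizer ({t} : Set G),
      a ∉ X1 → b ∉ X1 → a * b ∈ X1)
    {a : G} (haX : a ∈ Subgroup.centralizer ({t} : Set G)) (ha : a ∉ X1)
    (hpair : pairCent t t2 ≤ X1) {y : G} (hy : y ∈ X1) : y * t2 * y⁻¹ ≠ t2 * t := by
  intro hyt
  haveI : Fact (Nat.Prime 2) := ⟨Nat.prime_two⟩
  have hyc : Commute y t := commute_of_mem_cent (hle hy)
  have hbar : ∀ x : G, Commute x t → x * t2 * x⁻¹ = t2 * t → x * (t2 * t) * x⁻¹ = t2 := fun x hx e => by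
    rw [show x * (t2 * t) * x⁻¹ = x * t2 * x⁻¹ * (x * t * x⁻¹) by group, e, hx.eq, mul_inv_cancel_right, mul_assoc,
      h.sqT, mul_one]
  -- the subgroup keeping the pair
  obtain ⟨K2, hK2⟩ : ∃ K2 : Subgroup G, ∀ x, x ∈ K2 ↔ x ∈ X1 ∧ (x * t2 * x⁻¹ = t2 ∨ x * t2 * x⁻¹ = t2 * t) := by
    refine ⟨{
      carrier := {x | x ∈ X1 ∧ (x * t2 * x⁻¹ = t2 ∨ x * t2 * x⁻¹ = t2 * t)}
      one_mem' := ⟨one_mem _, Or.inl (by group)⟩
      mul_mem' := ?_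
      inv_mem' := ?_ }, fun x => Iff.rfl⟩
    · rintro x x' ⟨hx, e⟩ ⟨hx', e'⟩
      refine ⟨mul_mem hx hx', ?_⟩
      rw [show x * x' * t2 * (x * x')⁻¹ = x * (x' * t2 * x'⁻¹) * x⁻¹ by group]
      rcases e' with e' | e' <;> rw [e']
      · exact e
      · rcases e with e | e
        · refine Or.inr ?_
          rw [show x * (t2 * t) * x⁻¹ = x * t2 * x⁻¹ * (x * t * x⁻¹) by group, e,
            (commute_of_mem_cent (hle hx)).eq, mul_inv_cancel_right]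
        · exact Or.inl (hbar x (commute_of_mem_cent (hle hx)) e)
    · rintro x ⟨hx, e⟩
      refine ⟨inv_mem hx, ?_⟩
      rcases e with e | e
      · refine Or.inl ?_
        nth_rw 1 [← e]
        group
      · refine Or.inr ?_
        nth_rw 1 [← hbar x (commute_of_mem_cent (hle hx)) e]
        group
  have hne : t2 ≠ t2 * t := h.four_distinct.2.2.2.2.2
  have hyK : y ∈ K2 := (hK2 y).2 ⟨hy, Or.inr hyt⟩
  have hCK : pairCent t t2 ≤ K2 := fun x hx => (hK2 x).2 ⟨hpair hx, Or.inl (by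
    rw [(mem_pairCent.1 hx).2.eq, mul_inv_cancel_right])⟩
  have hidx2 : ((pairCent t t2).subgroupOf K2).index = 2 := by
    rw [Subgroup.index_eq_two_iff]
    refine ⟨⟨y, hyK⟩, fun x => ?_⟩
    obtain ⟨hx1, hx2⟩ := (hK2 x).1 x.2
    have hxt := commute_of_mem_cent (hle hx1)
    have hmem : ∀ w : G, Commute w t → (w ∈ pairCent t t2 ↔ w * t2 * w⁻¹ = t2) := fun w hw => by
      rw [mem_pairCent, mul_inv_eq_iff_eq_mul]
      exact ⟨fun e => e.2.eq, fun e => ⟨hw, e⟩⟩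
    simp only [Subgroup.mem_subgroupOf, Subgroup.coe_mul]
    rw [hmem _ (hxt.mul_left hyc), hmem _ hxt,
      show (x : G) * y * t2 * ((x : G) * y)⁻¹ = (x : G) * (y * t2 * y⁻¹) * (x : G)⁻¹ by group, hyt]
    rcases hx2 with e | e
    · refine Or.inr ⟨e, fun e' => hne ?_⟩
      rw [show (x : G) * (t2 * t) * (x : G)⁻¹ = (x : G) * t2 * (x : G)⁻¹ * ((x : G) * t * (x : G)⁻¹) by group, e,
        hxt.eq, mul_inv_cancel_right] at e'
      exact e'.symm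
    · exact Or.inl ⟨hbar _ hxt e, fun e' => hne (e'.symm.trans e)⟩
  have hKc : Nat.card ↥K2 = 2 ^ 18 * 280665 := by
    have h1 := ((pairCent t t2).subgroupOf K2).card_mul_index
    rw [hidx2, Nat.card_congr (Subgroup.subgroupOfEquivOfLe hCK).toEquiv, (h.cover hw).2.2.2] at h1
    rw [← h1]
    norm_num
  -- transport
  obtain ⟨m, hmz, htW, h2W⟩ := h.exists_frame
  obtain ⟨c, hc⟩ : ∃ c : MulAut G, c = MulAut.conj m⁻¹ := ⟨_, rfl⟩
  have hcap : ∀ x : G, c x = m⁻¹ * x * m := fun x => by rw [hc, MulAut.conj_apply, inv_inv]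
  obtain ⟨H0, hH0⟩ : ∃ H0, H0 = X1.map c.toMonoidHom := ⟨_, rfl⟩
  obtain ⟨K0, hK0⟩ : ∃ K0, K0 = K2.map c.toMonoidHom := ⟨_, rfl⟩
  have hback : ∀ x : G, c (m * x * m⁻¹) = x := fun x => by rw [hcap]; group
  have hlagK : D.lagC ≤ K0 := fun x hx => by
    refine hK0 ▸ ⟨m * x * m⁻¹, hCK (mem_pairCent.2 ⟨?_, ?_⟩), hback x⟩
    · have := (Commute.conj_iff m).2 (D.lag_comm hx (D.lagW_le_C htW))
      rwa [show m * (m⁻¹ * t * m) * m⁻¹ = t by group] at this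
    · have := (Commute.conj_iff m).2 (D.lag_comm hx (D.lagW_le_C h2W))
      rwa [show m * (m⁻¹ * t2 * m) * m⁻¹ = t2 by group] at this
  have hK0c : Nat.card ↥K0 = 2 ^ 18 * 280665 := by
    rw [hK0, Subgroup.card_map_of_injective (f := c.toMonoidHom) c.injective, hKc]
  obtain ⟨P', hP'c, hP'A⟩ := Sylow.exists_subgroup_card_pow_prime_le (G := ↥K0) (p := 2) (n := 11) (m := 18)
    (by rw [hK0c]; exact dvd_mul_right _ _) (D.lagC.subgroupOf K0)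
    (by rw [Nat.card_congr (Subgroup.subgroupOfEquivOfLe hlagK).toEquiv, D.lagC_image.1]) (by norm_num)
  obtain ⟨P, hP⟩ : ∃ P, P = P'.map K0.subtype := ⟨_, rfl⟩
  have hPK : P ≤ K0 := hP ▸ Subgroup.map_subtype_le _
  have hPc : Nat.card ↥P = 2 ^ 18 := by
    rw [hP, Subgroup.card_map_of_injective K0.subtype_injective, hP'c]
  have hAP : D.lagC ≤ P := fun x hx =>
    hP ▸ ⟨⟨x, hlagK hx⟩, hP'A (show (⟨x, hlagK hx⟩ : ↥K0) ∈ D.lagC.subgroupOf K0 from hx), rfl⟩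
  have hPn : P ≤ D.nA := D.two_le_nA (hw.1.symm ▸ hw.2.1) (hw.1.symm ▸ hw.2.2)
    (IsPGroup.iff_card.2 ⟨18, hPc⟩) hAP
  have hKH : K0 ≤ H0 := hK0 ▸ hH0 ▸ Subgroup.map_mono fun x hx => ((hK2 x).1 hx).1
  obtain ⟨n1, n2, n3⟩ := h.not_conj_three
  have hTs : ∀ a : G, m⁻¹ * a * m ∈ D.lagC → a ≠ 1 → ¬ IsConj z a → m⁻¹ * a * m ∈ D.Ts := fun a ha h1 h2 =>
    ⟨ha, fun e => h1 (by rw [show a = m * (m⁻¹ * a * m) * m⁻¹ by group, e]; group), fun e =>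
      h2 (e.trans (isConj_iff.2 ⟨m, by group⟩))⟩
  obtain ⟨d1, d2, d3, -⟩ := h.four_distinct
  have ht0 := hTs t (D.lagW_le_C htW) d1 n1
  have hu0 : m⁻¹ * t2 * m ∈ D.nbrs (m⁻¹ * t * m) := by
    refine ⟨hTs t2 (D.lagW_le_C h2W) d2 n2, ?_⟩
    have e : m⁻¹ * (t2 * t) * m = m⁻¹ * t * m * (m⁻¹ * t2 * m) := by
      rw [← h.comm.eq]; group
    rw [← e]
    exact hTs _ (by rw [e]; exact mul_mem (D.lagW_le_C htW) (D.lagW_le_C h2W)) d3 n3
  have h22 := D.orbit_twentytwo hw ht0 hu0 H0 ?_ ?_ P (le_inf (hPK.trans hKH) hPn) ?_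
  · rw [hPc, hH0, Subgroup.card_map_of_injective (f := c.toMonoidHom) c.injective] at h22
    have hX : Nat.card ↥(Subgroup.centralizer ({t} : Set G)) = Nat.card ↥X1 * 2 := by
      have h1 := (X1.subgroupOf (Subgroup.centralizer ({t} : Set G))).card_mul_index
      rw [Nat.card_congr (Subgroup.subgroupOfEquivOfLe hle).toEquiv] at h1
      rw [← h1]
      congr 1
      rw [Subgroup.index_eq_two_iff]
      refine ⟨⟨a, haX⟩, fun b => ?_⟩
      simp only [Subgroup.mem_subgroupOf, Subgroup.coe_mul]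
      by_cases hb : (b : G) ∈ X1
      · refine Or.inr ⟨hb, fun e => ha ?_⟩
        simpa using mul_mem (inv_mem hb) e
      · exact Or.inl ⟨hidx _ b.2 _ haX hb ha, hb⟩
    refine h.not_dvd_cent hw ?_
    rw [hX, pow_succ]
    exact mul_dvd_mul_right ((show 2 ^ 19 ∣ 22 * 2 ^ 18 by norm_num).trans h22) 2
  · intro k hk hkt
    have h1 := (Commute.conj_iff m).2 hkt
    rw [show m * (m⁻¹ * t * m) * m⁻¹ = t by group] at h1
    have hkX := mem_cent_of_commute h1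
    refine hH0 ▸ ⟨m * (k * k) * m⁻¹, ?_, hback _⟩
    rw [SetLike.mem_coe, show m * (k * k) * m⁻¹ = m * k * m⁻¹ * (m * k * m⁻¹) by group]
    by_cases h' : m * k * m⁻¹ ∈ X1
    · exact mul_mem h' h'
    · exact hidx _ hkX _ hkX h' h'
  · intro k hk
    obtain ⟨x, hx, rfl⟩ := hH0 ▸ hk
    show Commute (c x) _
    rw [hcap, ← inv_inv m]
    simp only [inv_inv]
    have := (Commute.conj_iff m⁻¹).2 (commute_of_mem_cent (hle hx))
    simpa using this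
  · intro k hk
    obtain ⟨x, hx, rfl⟩ := hK0 ▸ hPK hk
    show c x * _ * (c x)⁻¹ = _ ∨ c x * _ * (c x)⁻¹ = _
    rw [← hcap, ← hcap t, ← map_inv, ← map_mul, ← map_mul, ← map_mul]
    rcases ((hK2 x).1 hx).2 with e | e
    · exact Or.inl (congrArg c e)
    · exact Or.inr (congrArg c e)

/-- An exchanging element commuting with the central involution. -/
theorem exists_exchange {g₀ s₀ : G} (hw : D.Wit g₀ s₀) {s : G} (hs : D.Mate t s) :
    ∃ o, Commute o z ∧ Commute o t ∧ o * t2 * o⁻¹ = t2 * t := by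
  obtain ⟨x, hxz, hxt, hxM⟩ := D.exists_outer h.ptT
  have hfix : D.sg x (D.cl t) = D.cl t := by rw [← D.cl_conj hxz h.tQ, hxt.eq, mul_inv_cancel_right]
  have e : D.cl (x * t2 * x⁻¹) = D.cl (t2 * t) := by
    rw [D.cl_conj hxz h.t2Q, h.cl2, D.outer_twist hw.1 hw.2.1 hw.2.2 hxz hxM, hfix, tau_om.1, h.cl_mul]
  rcases (D.cl_eq _ (conj_mem D.ctx hxz h.t2Q) _ (mul_mem h.t2Q h.tQ)).1 e with e' | e'
  · exact ⟨x, hxz, hxt, e'.symm⟩
  · refine ⟨x * s, hxz.mul_left (D.ctx.central s hs.sQ).symm, hxt.mul_left (hs.commTS h.tQ).symm, ?_⟩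
    rw [show x * s * t2 * (x * s)⁻¹ = x * (s * t2 * s⁻¹) * x⁻¹ by group, hs.moves h,
      show x * (z * t2) * x⁻¹ = x * z * x⁻¹ * (x * t2 * x⁻¹) by group, hxz.eq, mul_inv_cancel_right]
    exact e'.symm

end Coord.Duo

end Cfsg.Lib.FischerLarge
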