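import Cfsg.Agent.Lib.FischerLarge.FourBasic
import Cfsg.Agent.Lib.FischerLarge.Fi22Part.Form

/-!
# A partner in the small orbit, and no transvection in a model
-/

set_option autoImplicit false
set_option maxRecDepth 4000

namespace Cfsg.Lib.FischerLarge

open Cfsg Cfsg.Lib.SUSixU43 Cfsg.Lib.Extra Cfsg.Lib.PermAut

universe u

theorem mate_check : ∀ c < 3, (orbA c).has 11 = true ∧ (orbA c).has (addC 5 11) = true ∧
    hermC 5 11 % 4 = 1 ∧ Nat.blt (addC 5 11) 4096 = true := by decide +kernel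

/-- An involution of a model fixes few vectors. -/
theorem invol_fix_small {c : ℕ} (hc : c < 3) {g : G6} (hg : g ∈ KM c) (hg2 : g * g = 1) (hg1 : g ≠ 1) :
    {x : V6 | g • x = x}.ncard ≤ 256 := by
  classical
  have := Fact.mk Nat.prime_two
  have h2 : IsPGroup 2 ↥(Subgroup.zpowers g) := IsPGroup.iff_card.2
    ⟨1, by rw [Nat.card_zpowers, pow_one, orderOf_eq_prime (by rw [pow_two, hg2]) hg1]⟩
  obtain ⟨k, -, hk⟩ := two_le_syl hc (Subgroup.zpowers_le.2 hg) h2
  obtain ⟨i, hi, e⟩ := hk g (Subgroup.mem_zpowers g)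
  have hsq : sy c i * sy c i = 1 := by
    rw [e, show k * g * k⁻¹ * (k * g * k⁻¹) = k * (g * g) * k⁻¹ by group, hg2]
    group
  have h0 : i ≠ 0 := fun h => hg1 (by
    rw [h, sy_zero hc] at e
    exact conj_eq_one_iff.1 e.symm)
  have hinv : i ∈ (syl c).invs := by
    have hb := sylInv_ok c hc
    simp only [invB, Bool.and_eq_true, List.all_eq_true, allBelowB_iff, Nat.beq_eq, Nat.blt, Nat.ble_eq] at hb
    obtain ⟨⟨hinv, -⟩, -⟩ := hb
    have h1 := sy_mul hc hi hi
    rw [hsq, ← sy_zero hc] at h1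
    have h3 := sy_inj hc (by norm_num) h1.1 h1.2
    have := hinv i hi
    rw [show Nat.beq ((syl c).tab i i) 0 = true by rw [← h3]; rfl, cond_true, Bool.or_eq_true, Nat.beq_eq,
      List.contains_iff_mem] at this
    exact this.resolve_left h0
  refine le_trans ?_ (rk_facts hc hinv).2
  refine Set.ncard_le_ncard_of_injOn (fun x => k • x) (fun x hx => ?_) (fun x _ y _ h => smul_left_cancel k h)
    (Set.toFinite _)
  show sy c i • k • x = k • x
  rw [e, ← mul_smul, inv_mul_cancel_right, mul_smul]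
  exact congrArg _ hx

/-- The transvection of a singular vector is not in a model. -/
theorem no_transvection {c : ℕ} (hc : c < 3) {v w : V6} (h : Hyp2 v w) {g : G6} (hg : g ∈ KM c)
    (hform : ∀ x, g • x = x + hermForm 6 R4 2 x v • v) : False := by
  have hg2 : g * g = 1 := g6_sq_one fun x => by
    rw [hform x, hform, herm_add_left, herm_scalar_left, h.vv, mul_zero, add_zero, v6_cancel_right]
  have hg1 : g ≠ 1 := fun e => h.v_ne (by
    have := hform w
    rw [e, one_smul, h.wv, one_smul] at this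
    exact left_eq_add.1 this)
  have hle := invol_fix_small hc hg hg2 hg1
  have hsub : {x : V6 | hermForm 6 R4 2 x v = 0} ⊆ {x : V6 | g • x = x} := fun x hx => by
    show g • x = x
    rw [hform, show hermForm 6 R4 2 x v = 0 from hx, zero_smul, add_zero]
  have hbig : (Set.univ : Set V6).ncard ≤ ({x : V6 | hermForm 6 R4 2 x v = 0} ×ˢ (Set.univ : Set R4)).ncard := by
    refine Set.ncard_le_ncard_of_injOn (fun x => (x + hermForm 6 R4 2 x v • w, hermForm 6 R4 2 x v)) (fun x _ => ?_)
      (fun x _ y _ e => ?_) (Set.toFinite _)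
    · refine ⟨?_, trivial⟩
      show hermForm 6 R4 2 _ v = 0
      rw [herm_add_left, herm_scalar_left, h.wv, mul_one, r4_sum_self]
    · obtain ⟨e1, e2⟩ := Prod.mk.inj e
      rw [e2] at e1
      exact add_right_cancel e1
  rw [Set.ncard_prod, Set.ncard_univ, Set.ncard_univ, Nat.card_eq_fintype_card, Fintype.card_fun, Fintype.card_fin,
    Nat.card_eq_fintype_card, card_r4] at hbig
  have := (Set.ncard_le_ncard hsub (Set.toFinite _)).trans hle
  omega

variable {G : Type u} [Group G] [Finite G] {z : G} {Q : Subgroup G} (D : Coord z Q)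

/-- A vector of the small orbit has a partner there with inner product one and sum there. -/
theorem Coord.exists_mate_vec {v : V6} (hv : v ∈ D.A) :
    ∃ w ∈ D.A, v + w ∈ D.A ∧ hermForm 6 R4 2 v w = 1 := by
  obtain ⟨h11, hsum, hh, hlt⟩ := mate_check D.c D.c_lt
  have hd := orbA_dist D.c_lt
  have hA : ∀ n < 4096, (orbA D.c).has n = true → vec n ∈ D.A := fun n hn h => by
    rw [D.A_eq]
    exact (has_iff hd hn).1 h
  have h5 : vec 5 ∈ D.A := by
    rw [D.A_eq]
    exact (orbit_facts D.c_lt).2.2.2.2.2.2.2.2.2.1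
  obtain ⟨g, hg, rfl⟩ := D.orb.transA _ h5 v hv
  refine ⟨g • vec 11, D.orb.invA g hg _ (hA 11 (by norm_num) h11), ?_, ?_⟩
  · rw [← g6_add, ← vec_addC]
    exact D.orb.invA g hg _ (hA _ (by rw [Nat.blt, Nat.ble_eq] at hlt; exact hlt) hsum)
  · rw [herm_smul, herm_vec, ← el_mod, hh]
    exact el_one_zero.1

end Cfsg.Lib.FischerLarge
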